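import Cfsg.Agent.Lib.Monster.Baby
import Cfsg.Agent.Lib.Extraspecial.Structure
import Cfsg.Agent.Lib.Calc.Iso

/-! In a group of Monster type, the centraliser of an involution of `Q` over a short vector is a perfect double cover
of a simple group. -/

set_option autoImplicit false

namespace Cfsg.Lib.Mon

open Subgroup MulAction Cfsg.Lib.Leech Cfsg.Lib.ES Cfsg.Spor Cfsg.Lib.Calc
open scoped commutatorElement

/-- Short vectors orthogonal to `u`, three for each basis vector. -/
def perpP : ℕ := 0x3f3f4141413f3f3f4141413f3d3f3f413f3f3f4141413f413f413f3f41413f3f41413f3f433f41413f413f4141413f4140423e3e4042404040403e403e40424040424040404040403f41433f413f4141413f3f3f3f3f3f4141414141413f3f413f413f3f3f414141413f3f41434141413f413f413f3f3f4140404040424240404040404240423e4042403e4042404040404040403e403e423e404240404042403e4040404240404040404040404042423e403e40404040424042404240404240404040403e404040404040404040423e423e40423e40424040404040403e4240404040404240423e403e403e404240403f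413f413f41413f41413f41413f3f413f3f3f413f4143413f413f413f3f3f3f414143413f3f413f3f413f3f3f3f3f414042403e40403e40424040404240424042404040404240403f413f41413f3f414141413f3f4341413f3f413f413f3f413f3f3f3f413f41413f414143413f3f41413f413f41413f413f3f3f3f41413f41413f3f413f413f3f3f414141414143413f413f3f3f413f4141414141433f413f3f3f41413f413f41403e40403e404040403e3e40403e4240403e40404240404040403e3e4040403e4040404240403e3e403e4042404040404040403e3e40404040403e403e4240424042404240404040404042403e40403e40403e42423e424040404040404040403f413f413f3f41413f413f41413f41433f3f413f41413f413f413f413f413f413f3f413f413f413f3f3f41413d3f414140404040403e4240403e3e3e4040404040404042404242404040423e4042403e404040404042424040404240404042404040424040403e42404040403e403e40423e40404040424040404042403e3e4040404040424240403e3e4240404040403f413f3f413f3f4341414141414141413f3f3f413f3f3f4140404040403e40404240423e4040403e3e404040424042403f413f3f41413f3f3f413f3f4141413f413f3f3d413f414140404040404242404040404042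403e42403e4042404240403e40403e40404040403e423e404040403e40404040403e42403e3e404240403e42404040403e4040404042404240404040403e3e4040403e403e40404040403e404042403e4240403f3f3f413f434141413f3f41413f41413f413f3f3f4141413f3f413f3f3f413f41413f41413f413f4341413f413f41413f41413f41413f3f41413f3f41413f3f3f4341413f413f413f4341413f3f413f3f414141413f3f413f3f413f3f4141413f413f3f433f413f4141413f3f3f413f4141413f41413f4140424040403e3e42404040403e3e424040404040424040403f3f413f413f41413f41413f3f41414341413f3f3f413f41404042404040424040424040404042424040424240404240404040403e403e404040423e40424040423e4040404042404040424240403e404240423e404042404040404040404240403e404040403e3e423e4040403e40403e424040404040404040403e4240403e3e42404040404040403e40424240404040404242424040404042423e40404040403e404040424040404040423e3e40404040403e4040403e4040403e3e42404040403e3e40423e40404040404040423e424040404240404040403e3e40403e403e403e3e404042404040404040404240404040424240424040423e4040404042404040403e40424040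4040403e40404042403e404042424240404240404042404040403e40404040403e4042404240423e3e4040424040403f3f3f3f413f3d4141413f3f41413f413f413f413f413f413f413f414141413f41413d413f3f4141414141413f3f3f413f3f4141414141414141413d413f3f4141413f3f3f413f413f3f413f413f3f3f41433f413f413f414141413f413f41413f3f41413f3f413f3f414141413f3f413f43413f3f4141413f3f4141413f3f3f413d3f3f3f3f3f3f3f3f413f3f3f41413f41413f4141413f3f4141413f41413f4141413f3d3f41413f3f413f3f3f3f43413f4141414141413f3f3f3f414141413e40404040404040403e403e3e3e3e4040404040424040423f3f4141433f3f413f3f413f4141413f414141413f3f3f413f3f414141413f3f3f3f41433f3f414141413f413f413f414040404240403e4240403e4042404242404042404040404040404040403e4040403e40404042424240404040424242404040424240404042404240404040403e404042403e424040403e40403e403e404040404040403e3e404042403e42404040403e3e40403e404240424240403e4040404040404042403f3f3f413f3f413f3f3f3f3f414143413f3f3f3f41413f414040403e40403e42404240424040404040424240404042403f3f3f3f3f3f3f413f413f41414143413f41413f41414141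

theorem mem_of_perp {A : AddSubgroup L2}
    (h : ∀ y : leechLattice, nm(y) = 32 → dt(y, leechU) = 0 → (y : L2) + leechU ∈ A) {v : leechLattice}
    (hv : 16 ∣ dt(v, leechU)) : (v : L2) ∈ A := by
  have c1 : allLt 72 (fun j => band (isL (get 192 perpP j)) (band (dotV (get 192 perpP j) (get 192 perpP j) 32 0)
      (dotV (get 192 perpP j) 0x444040404040404040404040404040404040404040404044 0 0))) = true := by decide +kernel
  have c2 : allLt 24 (fun i => Nat.beq (Nat.xor (2 ^ i) (get 1 0xc75 i)) (Nat.xor (Nat.xor (codeN (get 192 perpP (3 * i)))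
      (codeN (get 192 perpP (3 * i + 1)))) (codeN (get 192 perpP (3 * i + 2))))) = true := by decide +kernel
  have c3 : dt(bas 0, leechU) = -8 := by
    rw [coe_bas (by norm_num), coe_leechU]; exact dotV_iff.1 (show dotV _ _ 0 8 = true by decide +kernel)
  have a2 : ∀ v : leechLattice, (v : L2) + v = 0 := fun v => code2_injective (by
    rw [← QuotientAddGroup.mk_add, code2_mk, code_add_self]; exact code_zero.symm)
  let y : ℕ → leechLattice := fun j => lv (get 192 perpP j)
  have h1 : ∀ j < 72, code (y j) = codeN (get 192 perpP j) ∧ dt(y j, leechU) = 0 ∧ (y j : L2) + leechU ∈ A :=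
    fun j hj => by
      obtain ⟨a, b⟩ := band_eq_true.1 (allLt_iff.1 c1 j hj)
      have e : dt(y j, leechU) = 0 := by rw [coe_lv a, coe_leechU]; exact dotV_iff.1 (band_eq_true.1 b).2
      exact ⟨code_lv a, e, h _ (by rw [coe_lv a, sqNorm_eq_dot]; exact dotV_iff.1 (band_eq_true.1 b).1) e⟩
  have h2 : ∀ i < 24, ∃ n : ℤ, (i = 0 → n = 1) ∧
      ((bas i + n • bas 0 : leechLattice) : L2) = (y (3 * i) + y (3 * i + 1) + y (3 * i + 2) : leechLattice) :=
    fun i hi => by
      have e := Nat.eq_of_beq_eq_true (allLt_iff.1 c2 i hi)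
      have e' : get 1 0xc75 i < 2 := by rw [get_eq]; exact Nat.mod_lt _ (by norm_num)
      refine ⟨get 1 0xc75 i, by rintro rfl; rfl, ?_⟩
      rw [L2_eq_iff, code_add, code_add, code_add, code_bas hi, (h1 _ (by omega)).1, (h1 _ (by omega)).1,
        (h1 _ (by omega)).1]
      refine Eq.trans (congrArg _ ?_) e
      generalize get 1 0xc75 i = n at e'
      interval_cases n
      · simpa using code_zero
      · simpa using code_bas (j := 0) (by norm_num)
  have h3 : ∀ i < 24, ((y (3 * i) + y (3 * i + 1) + y (3 * i + 2) : leechLattice) : L2) + leechU ∈ A := fun i hi => by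
    have := A.add_mem (A.add_mem (h1 (3 * i) (by omega)).2.2 (h1 (3 * i + 1) (by omega)).2.2)
      (h1 (3 * i + 2) (by omega)).2.2
    rw [add_add_add_comm (y (3 * i) : L2), a2, add_zero, ← add_assoc] at this
    exact this
  have hu : (leechU : L2) ∈ A := by
    obtain ⟨n, e1, e2⟩ := h2 0 (by norm_num)
    have := h3 0 (by norm_num)
    rwa [← e2, e1 rfl, one_smul, QuotientAddGroup.mk_add, a2, zero_add] at this
  let S : AddSubgroup leechLattice :=
    { carrier := {v | ∃ n : ℤ, v + n • bas 0 ∈ leechPerpU ⊓ A.comap (QuotientAddGroup.mk' _)}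
      zero_mem' := ⟨0, by rw [zero_smul, add_zero]; exact zero_mem _⟩
      add_mem' := fun ⟨m, a⟩ ⟨n, b⟩ => ⟨m + n, by rw [add_smul, add_add_add_comm]; exact add_mem a b⟩
      neg_mem' := fun ⟨m, a⟩ => ⟨-m, by rw [neg_smul, ← neg_add]; exact neg_mem a⟩ }
  obtain ⟨n, a, b⟩ : v ∈ S := by
    rw [← sum_coord v]
    refine S.sum_mem fun i hi => S.zsmul_mem ?_ _
    have hi := Finset.mem_range.1 hi
    obtain ⟨n, -, e⟩ := h2 i hi
    refine ⟨n, ?_, show ((bas i + n • bas 0 : leechLattice) : L2) ∈ A from e ▸ (A.add_mem_cancel_right hu).1 (h3 i hi)⟩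
    obtain ⟨w, hw⟩ := code_eq_iff'.1 (L2_eq_iff.1 e)
    have := eight_dvd_dot w.2 leechU.2
    change 16 ∣ dt((bas i + n • bas 0 : leechLattice), leechU)
    rw [sub_eq_iff_eq_add.1 hw]
    simp only [AddSubgroup.coe_add, dot_add_left, (h1 _ (show 3 * i < 72 by omega)).2.1,
      (h1 _ (show 3 * i + 1 < 72 by omega)).2.1, (h1 _ (show 3 * i + 2 < 72 by omega)).2.1]
    omega
  obtain ⟨m, rfl⟩ : ∃ m, n = m + m := ⟨n / 2, by
    have : 16 ∣ dt((v + n • bas 0 : leechLattice), leechU) := a
    rw [AddSubgroup.coe_add, AddSubgroup.coe_zsmul, dot_add_left, dot_zsmul_left, c3] at this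
    omega⟩
  have : ((v + (m + m) • bas 0 : leechLattice) : L2) ∈ A := b
  rwa [add_smul, QuotientAddGroup.mk_add, QuotientAddGroup.mk_add, a2, add_zero] at this

variable {G : Type*} [Group G] [Finite G] {z g t : G} {Q : Subgroup G} (D : XD z Q Co1 L2)
  (hc : Nat.card Q = 2 ^ (2 * 12 + 1)) (hg : g * z * g⁻¹ ∈ Q) (hne : g * z * g⁻¹ ≠ z) (ht : t ∈ Q)
  (h2 : orderOf t = 2) (hu : D.π t = leechU)
include D hc hg hne ht h2 hu

theorem inf_le_of_mem {N : Subgroup G} (hN : centralizer {t} ≤ normalizer (N : Set G)) (hz : z ∈ N) :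
    Q ⊓ centralizer {t} ≤ N := by
  have h0 : (leechU : L2) ≠ 0 := mk_ne_zero (by simp [nm_leechU]) (by simp [nm_leechU])
  have h3 : ¬ IsConj z (z * t) := not_isConj_of_nm D hc (Q.mul_mem D.lg.mem ht) ((D.π_z_mul ht).trans hu) nm_leechU
  have h4 : ¬ IsConj z t := not_isConj_of_nm D hc ht hu nm_leechU
  obtain ⟨k, k1, k2, k3⟩ := exists_fuse D hc hg hne ht hu nm_leechU
  have k4 : k * z * k⁻¹ * t = k * (z * t) * k⁻¹ := by nth_rw 1 [← k1]; group
  have k5 : ¬ IsConj z (k * z * k⁻¹ * t) := fun e => h3 (e.trans (isConj_iff.2 ⟨k⁻¹, by rw [k4]; group⟩))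
  have k6 : orderOf (z * t) = 2 := orderOf_eq_prime (by
      rw [(show Commute z t from (D.lg.comm ht).symm).mul_pow, sq, D.lg.mul_self, ← h2, pow_orderOf_eq_one, mul_one])
    fun e => h4 (by rw [eq_inv_of_mul_eq_one_right e, D.lg.inv_eq])
  obtain ⟨y, y1, y2⟩ := nm_cases D (Q.mul_mem k2 ht) (by rw [k4, orderOf_conj_eq, k6]) fun e => k5 (by rw [e])
  replace y2 := y2.resolve_right fun e => k5 (isConj_of_nm D hc hg hne (Q.mul_mem k2 ht) y1 e)
  obtain ⟨v, v1, v2⟩ := nm_of_isConj D hc k2 (isConj_iff.2 ⟨k, rfl⟩) k3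
  have e1 : (v : L2) = y + leechU := by
    rw [← y1, D.π_mul _ k2 _ ht, hu, v1, add_assoc, D.add_self, add_zero]
  have y3 : dt(leechU, y) = 0 := by
    have a := nm_eq_of_mk (x := v) (y := y + leechU) v2.le
    have b := nm_eq_of_mk (x := v) (y := y - leechU) v2.le
    rw [AddSubgroup.coe_add, sqNorm_add, y2, nm_leechU, v2, dot_comm] at a
    rw [AddSubgroup.coe_sub, sqNorm_sub, y2, nm_leechU, v2, dot_comm, QuotientAddGroup.mk_sub, sub_eq_add_neg (y : L2),
      neg_eq_of_add_eq_zero_left (D.add_self _)] at b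
    rcases le_total dt(leechU, y) 0 with e | e
    · have := a (by omega) e1; omega
    · have := b (by omega) e1; omega
  let A : AddSubgroup L2 :=
    { carrier := D.π '' (Q ⊓ N : Subgroup G)
      zero_mem' := ⟨1, one_mem _, D.π_one⟩
      add_mem' := by
        rintro _ _ ⟨x, hx, rfl⟩ ⟨y, hy, rfl⟩
        exact ⟨_, mul_mem hx hy, D.π_mul _ hx.1 _ hy.1⟩
      neg_mem' := by
        rintro _ ⟨x, hx, rfl⟩
        exact ⟨_, inv_mem hx, D.π_inv hx.1⟩ }
  intro x hx
  obtain ⟨w, hw⟩ := QuotientAddGroup.mk_surjective (D.π x)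
  obtain ⟨x', hx', e⟩ : (w : L2) ∈ A := mem_of_perp (fun y' n d => by
    obtain ⟨a, a1, a2⟩ := exists_smul_pair32 (k := 0) (y := leechU') (n := 93150) (by simp [co2_L]) nm_leechU y2 y3
    obtain ⟨b, b1, b2⟩ := exists_smul_pair32 (k := 0) (y := leechU') (n := 93150) (by simp [co2_L]) nm_leechU n
      ((dot_comm _ _).trans d)
    have e2 : (b * a⁻¹) • leechU = leechU := by rw [mul_smul, inv_smul_eq_iff.2 a1.symm, b1]
    obtain ⟨c, c1, c2⟩ := (D.map_centralizer ht (hu ▸ h0)).ge (show ((b * a⁻¹ : Co0) : Co1) ∈ _ by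
      rw [hu, mem_stabilizer_iff, mk_smul_mk, e2])
    refine ⟨_, ⟨D.conj_mem c k2, (mem_normalizer_iff.1 (hN c1.2) _).1 ((mem_normalizer_iff.1 (hN
      (mem_centralizer_singleton_iff.2 (mul_inv_eq_iff_eq_mul.1 k1))) _).1 hz)⟩, ?_⟩
    rw [D.π_conj c _ k2, c2, v1, e1, smul_add, mk_smul_mk, mk_smul_mk, e2, ← a2, mul_smul, inv_smul_smul, b2])
    ((comm_iff_dot D hx.1 ht hw.symm hu).1 (mem_centralizer_singleton_iff.1 hx.2))
  rcases (D.π_eq_iff hx'.1 hx.1).1 (e.trans hw) with rfl | rfl
  exacts [hx'.2, N.mul_mem hz hx'.2]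

theorem cen_le_of_mem {N : Subgroup G} (hN : centralizer {t} ≤ normalizer (N : Set G)) (hz : z ∈ N) :
    centralizer {z} ⊓ centralizer {t} ≤ N := by
  have h0 : (leechU : L2) ≠ 0 := mk_ne_zero (by simp [nm_leechU]) (by simp [nm_leechU])
  have h1 := inf_le_of_mem D hc hg hne ht h2 hu hN hz
  obtain ⟨k, k1, k2, k3⟩ := exists_fuse D hc hg hne ht hu nm_leechU
  have k4 : k ∈ centralizer ({t} : Set G) := mem_centralizer_singleton_iff.2 (mul_inv_eq_iff_eq_mul.1 k1)
  have hm := D.map_centralizer ht (hu ▸ h0)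
  rw [hu] at hm
  have := simple_co2
  have : IsSimpleGroup (stabilizer Co1 (leechU : L2)) := stabUEquiv.symm.isSimpleGroup
  let F := ((N ⊓ centralizer {t}).subgroupOf (centralizer ({z} : Set G))).map D.ρ
  have hF : (F.subgroupOf (stabilizer Co1 (leechU : L2))).Normal := ⟨by
    rintro ⟨_, -⟩ ⟨n, hn, rfl⟩ ⟨a, ha⟩
    obtain ⟨c, c1, rfl⟩ := hm.ge ha
    exact ⟨c * n * c⁻¹, ⟨(mem_normalizer_iff.1 (hN c1.2) _).1 hn.1, Subgroup.mul_mem _ (Subgroup.mul_mem _ c1.2 hn.2)
      (Subgroup.inv_mem _ c1.2)⟩,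
      by simp⟩⟩
  rcases hF.eq_bot_or_eq_top with e | e
  · exfalso
    have l := D.lg.conj k
    have a1 := l.relIndex_centralizer_le (D.lg.mem_conj k2)
    have a2 := l.relIndex_centralizer_le (show t ∈ Q.map (MulAut.conj k).toMonoidHom from ⟨t, ht, k1⟩)
    have a3 := T2.relIndex_mul_card (inf_le_right : Q ⊓ Q.map (MulAut.conj k).toMonoidHom ≤ _)
    rw [card_inf_conj D hc k2 k3, inf_relIndex_right, Core.card_map_conj, hc] at a3
    have a4 : (centralizer {z} ⊓ centralizer {t}) ⊓ Q.map (MulAut.conj k).toMonoidHom ≤ Q := by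
      rintro _ ⟨⟨x1, x2⟩, x, hx, rfl⟩
      have b : k * x * k⁻¹ ∈ N := (mem_normalizer_iff.1 (hN k4) _).1 (h1 ⟨hx, by
        simpa [mul_assoc] using Subgroup.mul_mem _ (Subgroup.mul_mem _ (Subgroup.inv_mem _ k4) x2) k4⟩)
      exact (D.ker ⟨_, x1⟩).1 (congrArg Subtype.val (mem_bot.1 (e.le (show (⟨D.ρ ⟨_, x1⟩, hm.le ⟨_, ⟨x1, x2⟩, rfl⟩⟩ :
        stabilizer Co1 (leechU : L2)) ∈ _ from ⟨_, ⟨b, x2⟩, rfl⟩))))
    have a5 := relIndex_le_of_le_left a4 (L := Q.map (MulAut.conj k).toMonoidHom) index_ne_zero_of_finite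
    have a6 := (relIndex_inf_le (H := centralizer {z}) (K := centralizer {t})
      (L := Q.map (MulAut.conj k).toMonoidHom)).trans (Nat.mul_le_mul a1 a2)
    rw [inf_relIndex_right] at a5
    omega
  · intro c c1
    obtain ⟨n, hn, e⟩ := mem_subgroupOf.1 (e.ge (mem_top ⟨D.ρ ⟨c, c1.1⟩, hm.le ⟨⟨c, c1.1⟩, c1, rfl⟩⟩))
    have a := (D.ker (n⁻¹ * ⟨c, c1.1⟩)).1 (by rw [map_mul, map_inv, e, inv_mul_cancel])
    exact (N.mul_mem_cancel_left (N.inv_mem hn.1)).1 (h1 ⟨a, Subgroup.mul_mem _ (Subgroup.inv_mem _ hn.2) c1.2⟩)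

variable {B : Type*} [Group B] {f : centralizer ({t} : Set G) →* B} (hf : Function.Surjective f)
  (hk : ∀ c, f c = 1 ↔ (c : G) = 1 ∨ (c : G) = t) (hz : z ∈ centralizer ({t} : Set G))
include hf hk

omit hg hne h2 hf in
theorem mem_cen_of_map {c : centralizer ({t} : Set G)} (h : ⁅c, ⟨z, hz⟩⁆ ∈ f.ker) :
    (c : G) ∈ centralizer ({z} : Set G) := by
  rcases (hk _).1 h with e | e
  · exact mem_centralizer_singleton_iff.2 (commutatorElement_eq_one_iff_mul_comm.1 e)
  · exact (not_isConj_of_nm D hc (Q.mul_mem D.lg.mem ht) ((D.π_z_mul ht).trans hu) nm_leechU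
      (isConj_iff.2 ⟨c, (mul_inv_eq_iff_eq_mul.1 e).trans (D.lg.comm ht)⟩)).elim

theorem lg_map : IsLargeExtraspecial ((Q.subgroupOf (centralizer {t})).map f) ∧
    Lg ((Q.subgroupOf (centralizer {t})).map f) (f ⟨z, hz⟩) := by
  have := Finite.of_surjective f hf
  have hzt := D.lg.comm ht
  have h0 : (leechU : L2) ≠ 0 := mk_ne_zero (by simp [nm_leechU]) (by simp [nm_leechU])
  have h3 : ¬ IsConj z (z * t) := not_isConj_of_nm D hc (Q.mul_mem D.lg.mem ht) ((D.π_z_mul ht).trans hu) nm_leechU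
  have h4 : ¬ IsConj z t := not_isConj_of_nm D hc ht hu nm_leechU
  have hq2 : ∀ c d : centralizer ({t} : Set G), f c = f d ↔ (c : G) = d ∨ (c : G) = t * d := fun c d => by
    rw [← mul_inv_eq_one, ← map_inv, ← map_mul, hk, coe_mul, coe_inv, mul_inv_eq_one, mul_inv_eq_iff_eq_mul]
  have h1 : f ⟨z, hz⟩ ≠ 1 := fun e => ((hk _).1 e).elim D.lg.ne_one fun e => h4 (isConj_iff.2 ⟨1, by simpa using e⟩)
  obtain ⟨k, k1, k2, k3⟩ := exists_fuse D hc hg hne ht hu nm_leechU
  have hL := isLarge_map hf (R := Q.subgroupOf (centralizer ({t} : Set G))) (z := ⟨z, hz⟩) D.lg.mem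
    (Subtype.ext D.lg.mul_self) h1 (fun x hx => mem_centralizer_singleton_iff.2 (Subtype.ext (D.lg.comm hx)))
    (fun x hx => by
      rcases D.lg.mem_iff.1 (D.lg.sq_mem x hx) with e | e
      · exact (show x ^ 2 = 1 from Subtype.ext e) ▸ one_mem _
      · exact (show x ^ 2 = ⟨z, hz⟩ from Subtype.ext e) ▸ mem_zpowers _)
    (fun c hc' => by
      have cz := mem_cen_of_map D hc ht hu hk hz (hc' _ D.lg.mem)
      have h5 : (c : G) ∈ Q := (D.ker ⟨c, cz⟩).1 (eq_one_of_perp (by
        rw [← hu]; exact (D.map_centralizer ht (hu ▸ h0)).le ⟨_, ⟨cz, c.2⟩, rfl⟩) fun v hv => by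
          obtain ⟨q, hq, e⟩ := D.π_surj v
          rw [← e, ← D.π_conj _ q hq, ← hu, add_comm, ← D.π_mul _ ht _ hq]
          exact ((hk _).1 (hc' ⟨q, mem_centralizer_singleton_iff.2 ((comm_iff_dot D hq ht e hu).2 hv)⟩ hq)).imp
            (fun e => congrArg D.π (mul_inv_eq_one.1 e)) fun e => congrArg D.π (mul_inv_eq_iff_eq_mul.1 e))
      have := D.lg.mem_or_mul_mem_centralizer ht (D.not_mem_centralizer (hu ▸ h0) ht) h5 fun x hx e => by
        rcases (hk _).1 (hc' ⟨x, mem_centralizer_singleton_iff.2 e⟩ hx) with e | e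
        · exact (commutatorElement_eq_one_iff_mul_comm.1 e).symm
        · exact absurd (hu.symm.trans ((D.π_eq_zero t ht).2 (e ▸ D.lg.commutator_mem h5 hx))) h0
      have e2 : t * t = 1 := mul_self_of_orderOf_two h2
      rw [D.lg.centralizer_eq D.es, D.lg.mem_iff, D.lg.mem_iff] at this
      rcases this with (e | e) | e | e
      · rw [(hk c).2 (Or.inl e)]; exact one_mem _
      · rw [(hq2 c ⟨z, hz⟩).2 (Or.inl e)]; exact mem_zpowers _
      · rw [(hk c).2 (Or.inr (mul_right_cancel (e.trans e2.symm)))]; exact one_mem _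
      · rw [(hq2 c ⟨z, hz⟩).2 (Or.inr (mul_right_cancel (b := t) (by rw [e, hzt, mul_assoc, e2, mul_one])))]
        exact mem_zpowers _)
    (fun c h => mem_normalizer_fintype fun x hx => D.conj_mem ⟨c, mem_cen_of_map D hc ht hu hk hz h⟩ hx)
    (g := ⟨k, mem_centralizer_singleton_iff.2 (mul_inv_eq_iff_eq_mul.1 k1)⟩) k2
    (fun e => ((hq2 _ _).1 e).elim k3 fun e => h3 (isConj_iff.2 ⟨k, e.trans hzt⟩))
  obtain ⟨w, l, -⟩ := exists_lg hL.1 hL.2.1 hL.2.2.1
  rw [l.eq_of_mem_centralizer (x := f ⟨z, hz⟩) (by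
    rintro _ ⟨x, hx, rfl⟩
    rw [← map_mul, ← map_mul]
    exact congrArg f (Subtype.ext (D.lg.comm hx))) (orderOf_eq_prime (by
      rw [← map_pow, sq, show (⟨z, hz⟩ * ⟨z, hz⟩ : centralizer ({t} : Set G)) = 1 from Subtype.ext D.lg.mul_self,
        map_one]) h1)]
  exact ⟨hL, l⟩

theorem eq_top_of_mem {N : Subgroup (centralizer ({t} : Set G))} [hN : N.Normal] (h : ⟨z, hz⟩ ∈ N) : N = ⊤ := by
  have := Finite.of_surjective f hf
  have h1 : ∀ c : centralizer ({t} : Set G), (c : G) ∈ centralizer ({z} : Set G) → c ∈ N := fun c hc' =>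
    (mem_map_iff_mem (subtype_injective _)).1 (cen_le_of_mem D hc hg hne ht h2 hu (N := N.map (Subgroup.subtype _))
      (fun k hk => mem_normalizer_fintype (by
        rintro _ ⟨n, hn, rfl⟩
        exact ⟨_, hN.conj_mem n hn ⟨k, hk⟩, rfl⟩)) ⟨_, h, rfl⟩ ⟨hc', c.2⟩)
  have := hN.map f hf
  have h3 := (lg_map D hc hg hne ht h2 hu hf hk hz).2.sup_centralizer_eq_top (N.map f)
    (map_mono fun x hx => h1 x (mem_centralizer_singleton_iff.2 (D.lg.comm hx)))
  rw [sup_eq_left.2 fun y hy => by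
    obtain ⟨c, rfl⟩ := hf y
    exact mem_map_of_mem _ (h1 c (mem_cen_of_map D hc ht hu hk hz (by
      rw [MonoidHom.mem_ker, map_commutatorElement, commutatorElement_eq_one_iff_mul_comm]
      exact mem_centralizer_singleton_iff.1 hy)))] at h3
  rw [← comap_map_eq_self (f := f) (H := N) fun c hc' => h1 c ?_, h3, comap_top]
  rcases (hk c).1 hc' with e | e <;> rw [e]
  exacts [one_mem _, mem_centralizer_singleton_iff.2 (D.lg.comm ht)]

omit hz in
theorem simple_map : IsSimpleGroup B ∧ IsNonsplitDoubleCover (centralizer ({t} : Set G)) B := by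
  have := Finite.of_surjective f hf
  have hz : z ∈ centralizer ({t} : Set G) := mem_centralizer_singleton_iff.2 (D.lg.comm ht).symm
  obtain ⟨hL, l⟩ := lg_map D hc hg hne ht h2 hu hf hk hz
  have : Nontrivial B := ⟨_, 1, l.ne_one⟩
  have : IsSimpleGroup B := ⟨fun N hN => or_iff_not_imp_left.2 fun h0 => by
    have := hN.comap f
    rw [← map_comap_eq_self_of_surjective hf N, eq_top_of_mem D hc hg hne ht h2 hu hf hk hz (N := N.comap f)
      (l.mem_of_normal hL.2.2.2 N h0), map_top_of_surjective f hf]⟩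
  have h3 : ∃ x ∈ Q.subgroupOf (centralizer {t}), ∃ y ∈ Q.subgroupOf (centralizer {t}), f ⁅x, y⁆ ≠ 1 := by
    by_contra! h
    refine ES.not_isMulCommutative hL.1 ⟨⟨?_⟩⟩
    rintro ⟨_, x, hx, rfl⟩ ⟨_, y, hy, rfl⟩
    exact Subtype.ext (commutatorElement_eq_one_iff_mul_comm.1 ((map_commutatorElement f x y).symm.trans (h x hx y hy)))
  obtain ⟨x, hx, y, hy, h3⟩ := h3
  refine ⟨this, isNonsplitDoubleCover_of_hom f hf ?_ ?_ (eq_top_of_mem D hc hg hne ht h2 hu hf hk hz ?_)⟩
  · have e : f.ker = (zpowers t).subgroupOf _ := by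
      ext c; rw [MonoidHom.mem_ker, hk, mem_subgroupOf, mem_zpowers_iff_of_orderOf_two h2]
    rw [← index_mul_card f.ker, index_ker, MonoidHom.range_eq_top.2 hf, card_top, mul_comm, e, Nat.card_congr (subgroupOfEquivOfLe
      ((zpowers_le (G := G)).2 (mem_centralizer_singleton_iff.2 rfl))).toEquiv, Nat.card_zpowers, h2]
  · refine (inferInstance : (center B).Normal).eq_bot_or_eq_top.resolve_right fun e => h3 ?_
    rw [map_commutatorElement, commutatorElement_eq_one_iff_mul_comm]
    exact mem_center_iff.1 (e.ge (mem_top _)) _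
  · rcases D.lg.mem_iff.1 (D.lg.commutator_mem hx hy) with e | e
    · exact (h3 ((hk _).2 (Or.inl e))).elim
    · exact (show ⁅x, y⁆ = ⟨z, hz⟩ from Subtype.ext e) ▸ commutator_mem_commutator (mem_top x) (mem_top y)

end Cfsg.Lib.Mon
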