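import Cfsg.Agent.Lib.Mon.RecS
import Cfsg.Agent.Lib.Mon.TriB
import Cfsg.Agent.Lib.Mon.TriC
import Cfsg.Agent.Lib.Mon.TriD
import Cfsg.Agent.Lib.Mon.Frame0
import Cfsg.Agent.Lib.Mon.Frame1
import Cfsg.Agent.Lib.Mon.Frame2
import Cfsg.Agent.Lib.Mon.Frame3
import Cfsg.Agent.Lib.Mon.Frame4
import Cfsg.Agent.Lib.Mon.Frame5
import Cfsg.Agent.Lib.Mon.Frame6
import Cfsg.Agent.Lib.Mon.Frame7
import Cfsg.Agent.Lib.Mon.Frame8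
import Cfsg.Agent.Lib.Mon.Frame9
import Cfsg.Agent.Lib.Mon.Frame10
import Cfsg.Agent.Lib.Mon.Frame11

/-! The certificate for the orbits of `C` on the axes (generated by tools/h22/gen3.py). -/

namespace Cfsg.Lib.Griess

open Finset MulAction Cfsg.Lib.Calc Cfsg.Lib.F2 Cfsg.Lib.Leech Cfsg.Spor

set_option maxRecDepth 100000

theorem sa0 : St 11 512 R0 (aT 0) ∧ IsAx (aT 0) := ⟨st0, ob0.isAx⟩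
theorem sa1 : St 11 512 R1 (aT 1) ∧ IsAx (aT 1) := ⟨st1, ob1.isAx⟩
theorem sa2 : St 11 512 R0 (aT 2) ∧ IsAx (aT 2) := ⟨st2, ob2.isAx⟩
theorem sa3 : St 11 512 R3 (aT 3) ∧ IsAx (aT 3) := ⟨st3, ob3.isAx⟩
theorem sa4 : St 11 512 R4 (aT 4) ∧ IsAx (aT 4) := ⟨st4, ob4.isAx⟩
theorem sa5 : St 11 512 R5 (aT 5) ∧ IsAx (aT 5) := ⟨st5, ob5.isAx⟩
theorem sa6 : St 11 512 R6 (aT 6) ∧ IsAx (aT 6) := ⟨st6, ob6.isAx⟩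
theorem sa7 : St 11 512 R7 (aT 7) ∧ IsAx (aT 7) := ⟨st7, ob7.isAx⟩
theorem sa8 : St 11 512 R8 (aT 8) ∧ IsAx (aT 8) := ⟨st8, ob8.isAx⟩
theorem sa9 : St 11 512 R9 (aT 9) ∧ IsAx (aT 9) := ⟨st9, ob9.isAx⟩
theorem sa10 : St 11 512 R10 (aT 10) ∧ IsAx (aT 10) := ⟨st10, ob10.isAx⟩
theorem sa11 : St 11 512 R11 (aT 11) ∧ IsAx (aT 11) := ⟨st11, ob11.isAx⟩

theorem U0 : Tri (aT 0) (aT 1) (aT 1) nd0 e1E nd2 := T0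
theorem U1 : Tri (aT 2) (aT 3) (aT 3) nd3 e1E nd5 := T1
theorem U2 : Tri (aT 2) (aT 5) (aT 5) nd6 e1E nd8 := T2
theorem U3 : Tri (aT 2) (aT 1) (aT 1) nd9 nd10 nd11 := T3
theorem U4 : Tri (aT 1) (aT 4) (aT 4) nd12 e1E nd14 := T4
theorem U5 : Tri (aT 1) (aT 6) (aT 6) nd15 e1E nd17 := T5
theorem U6 : Tri (aT 1) (aT 7) (aT 7) nd18 e1E nd20 := T6
theorem U7 : Tri (aT 8) (aT 4) (aT 4) e1E nd22 nd23 := T7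
theorem U8 : Tri (aT 9) (aT 6) (aT 8) e1E nd25 nd26 := T8
theorem U9 : Tri (aT 10) (aT 4) (aT 8) e1E nd28 nd29 := T9
theorem U10 : Tri (aT 11) (aT 8) (aT 10) e1E nd31 nd32 := T10
theorem U11 : Tri (aT 1) (aT 5) (aT 5) nd33 nd34 nd35 := tri tr11 sa1 sa5 sa5
theorem U12 : Tri (aT 1) (aT 3) (aT 3) nd36 nd37 nd38 := tri tr12 sa1 sa3 sa3
theorem U13 : Tri (aT 1) (aT 1) (aT 1) nd39 nd40 nd41 := tri tr13 sa1 sa1 sa1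
theorem U14 : Tri (aT 1) (aT 3) (aT 3) nd42 nd43 nd44 := tri tr14 sa1 sa3 sa3
theorem U15 : Tri (aT 3) (aT 6) (aT 6) nd45 nd46 nd47 := tri tr15 sa3 sa6 sa6
theorem U16 : Tri (aT 3) (aT 9) (aT 9) nd48 nd49 nd50 := tri tr16 sa3 sa9 sa9
theorem U17 : Tri (aT 3) (aT 4) (aT 4) nd51 nd52 nd53 := tri tr17 sa3 sa4 sa4
theorem U18 : Tri (aT 3) (aT 10) (aT 10) nd54 nd55 nd56 := tri tr18 sa3 sa10 sa10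
theorem U19 : Tri (aT 3) (aT 6) (aT 6) nd57 nd58 nd59 := tri tr19 sa3 sa6 sa6
theorem U20 : Tri (aT 3) (aT 8) (aT 8) nd60 nd61 nd62 := tri tr20 sa3 sa8 sa8
theorem U21 : Tri (aT 3) (aT 8) (aT 8) nd63 nd64 nd65 := tri tr21 sa3 sa8 sa8
theorem U22 : Tri (aT 3) (aT 5) (aT 5) nd66 nd67 nd68 := tri tr22 sa3 sa5 sa5
theorem U23 : Tri (aT 3) (aT 3) (aT 3) nd69 nd70 nd71 := tri tr23 sa3 sa3 sa3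
theorem U24 : Tri (aT 3) (aT 3) (aT 5) nd72 nd73 nd74 := tri tr24 sa3 sa3 sa5
theorem U25 : Tri (aT 3) (aT 7) (aT 6) nd75 nd76 nd77 := tri tr25 sa3 sa7 sa6
theorem U26 : Tri (aT 3) (aT 3) (aT 3) nd78 nd79 nd80 := tri tr26 sa3 sa3 sa3
theorem U27 : Tri (aT 3) (aT 7) (aT 7) nd81 nd82 nd83 := tri tr27 sa3 sa7 sa7
theorem U28 : Tri (aT 4) (aT 10) (aT 10) nd84 nd85 nd86 := tri tr28 sa4 sa10 sa10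
theorem U29 : Tri (aT 4) (aT 8) (aT 6) nd87 nd88 nd89 := tri tr29 sa4 sa8 sa6
theorem U30 : Tri (aT 4) (aT 8) (aT 8) nd90 nd91 nd92 := tri tr30 sa4 sa8 sa8
theorem U31 : Tri (aT 4) (aT 8) (aT 8) nd93 nd94 nd95 := tri tr31 sa4 sa8 sa8
theorem U32 : Tri (aT 4) (aT 11) (aT 11) nd96 nd97 nd98 := tri tr32 sa4 sa11 sa11
theorem U33 : Tri (aT 4) (aT 9) (aT 8) nd99 nd100 nd101 := tri tr33 sa4 sa9 sa8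
theorem U34 : Tri (aT 4) (aT 8) (aT 10) nd102 nd103 nd104 := tri tr34 sa4 sa8 sa10
theorem U35 : Tri (aT 4) (aT 4) (aT 4) nd105 nd106 nd107 := tri tr35 sa4 sa4 sa4
theorem U36 : Tri (aT 4) (aT 6) (aT 4) nd108 nd109 nd110 := tri tr36 sa4 sa6 sa4
theorem U37 : Tri (aT 4) (aT 8) (aT 8) nd111 nd112 nd113 := tri tr37 sa4 sa8 sa8
theorem U38 : Tri (aT 4) (aT 4) (aT 10) nd114 nd115 nd116 := tri tr38 sa4 sa4 sa10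
theorem U39 : Tri (aT 4) (aT 8) (aT 10) nd117 nd118 nd119 := tri tr39 sa4 sa8 sa10
theorem U40 : Tri (aT 4) (aT 8) (aT 9) nd120 nd121 nd122 := tri tr40 sa4 sa8 sa9
theorem U41 : Tri (aT 4) (aT 8) (aT 4) nd123 nd124 nd125 := tri tr41 sa4 sa8 sa4
theorem U42 : Tri (aT 4) (aT 8) (aT 8) nd126 nd127 nd128 := tri tr42 sa4 sa8 sa8
theorem U43 : Tri (aT 4) (aT 9) (aT 9) nd129 nd130 nd131 := tri tr43 sa4 sa9 sa9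
theorem U44 : Tri (aT 4) (aT 9) (aT 10) nd132 nd133 nd134 := tri tr44 sa4 sa9 sa10
theorem U45 : Tri (aT 4) (aT 8) (aT 9) nd135 nd136 nd137 := tri tr45 sa4 sa8 sa9
theorem U46 : Tri (aT 4) (aT 4) (aT 9) nd138 nd139 nd140 := tri tr46 sa4 sa4 sa9
theorem U47 : Tri (aT 4) (aT 6) (aT 4) nd141 nd142 nd143 := tri tr47 sa4 sa6 sa4
theorem U48 : Tri (aT 4) (aT 4) (aT 7) nd144 nd145 nd146 := tri tr48 sa4 sa4 sa7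
theorem U49 : Tri (aT 4) (aT 10) (aT 10) nd147 nd148 nd149 := tri tr49 sa4 sa10 sa10
theorem U50 : Tri (aT 4) (aT 10) (aT 8) nd150 nd151 nd152 := tri tr50 sa4 sa10 sa8
theorem U51 : Tri (aT 4) (aT 8) (aT 8) nd153 nd154 nd155 := tri tr51 sa4 sa8 sa8
theorem U52 : Tri (aT 4) (aT 8) (aT 8) nd156 nd157 nd158 := tri tr52 sa4 sa8 sa8
theorem U53 : Tri (aT 4) (aT 8) (aT 4) nd159 nd160 nd161 := tri tr53 sa4 sa8 sa4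
theorem U54 : Tri (aT 4) (aT 9) (aT 4) nd162 nd163 nd164 := tri tr54 sa4 sa9 sa4
theorem U55 : Tri (aT 4) (aT 4) (aT 5) nd165 nd166 nd167 := tri tr55 sa4 sa4 sa5
theorem U56 : Tri (aT 4) (aT 6) (aT 6) nd168 nd169 nd170 := tri tr56 sa4 sa6 sa6
theorem U57 : Tri (aT 4) (aT 4) (aT 4) nd171 nd172 nd173 := tri tr57 sa4 sa4 sa4
theorem U58 : Tri (aT 4) (aT 7) (aT 6) nd174 nd175 nd176 := tri tr58 sa4 sa7 sa6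
theorem U59 : Tri (aT 5) (aT 8) (aT 8) nd177 nd178 nd179 := tri tr59 sa5 sa8 sa8
theorem U60 : Tri (aT 5) (aT 10) (aT 10) nd180 nd181 nd182 := tri tr60 sa5 sa10 sa10
theorem U61 : Tri (aT 5) (aT 10) (aT 10) nd183 nd184 nd185 := tri tr61 sa5 sa10 sa10
theorem U62 : Tri (aT 5) (aT 6) (aT 6) nd186 nd187 nd188 := tri tr62 sa5 sa6 sa6
theorem U63 : Tri (aT 5) (aT 11) (aT 11) nd189 nd190 nd191 := tri tr63 sa5 sa11 sa11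
theorem U64 : Tri (aT 5) (aT 11) (aT 11) nd192 nd193 nd194 := tri tr64 sa5 sa11 sa11
theorem U65 : Tri (aT 5) (aT 9) (aT 9) nd195 nd196 nd197 := tri tr65 sa5 sa9 sa9
theorem U66 : Tri (aT 5) (aT 5) (aT 5) nd198 nd199 nd200 := tri tr66 sa5 sa5 sa5
theorem U67 : Tri (aT 5) (aT 5) (aT 5) nd201 nd202 nd203 := tri tr67 sa5 sa5 sa5
theorem U68 : Tri (aT 6) (aT 9) (aT 9) nd204 nd205 nd206 := tri tr68 sa6 sa9 sa9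
theorem U69 : Tri (aT 6) (aT 10) (aT 10) nd207 nd208 nd209 := tri tr69 sa6 sa10 sa10
theorem U70 : Tri (aT 6) (aT 8) (aT 8) nd210 nd211 nd212 := tri tr70 sa6 sa8 sa8
theorem U71 : Tri (aT 6) (aT 10) (aT 8) nd213 nd214 nd215 := tri tr71 sa6 sa10 sa8
theorem U72 : Tri (aT 6) (aT 10) (aT 10) nd216 nd217 nd218 := tri tr72 sa6 sa10 sa10
theorem U73 : Tri (aT 6) (aT 8) (aT 8) nd219 nd220 nd221 := tri tr73 sa6 sa8 sa8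
theorem U74 : Tri (aT 6) (aT 6) (aT 6) nd222 nd223 nd224 := tri tr74 sa6 sa6 sa6
theorem U75 : Tri (aT 6) (aT 9) (aT 9) nd225 nd226 nd227 := tri tr75 sa6 sa9 sa9
theorem U76 : Tri (aT 6) (aT 6) (aT 6) nd228 nd229 nd230 := tri tr76 sa6 sa6 sa6
theorem U77 : Tri (aT 6) (aT 9) (aT 6) nd231 nd232 nd233 := tri tr77 sa6 sa9 sa6
theorem U78 : Tri (aT 6) (aT 8) (aT 8) nd234 nd235 nd236 := tri tr78 sa6 sa8 sa8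
theorem U79 : Tri (aT 7) (aT 8) (aT 8) nd237 nd238 nd239 := tri tr79 sa7 sa8 sa8
theorem U80 : Tri (aT 7) (aT 8) (aT 8) nd240 nd241 nd242 := tri tr80 sa7 sa8 sa8
theorem U81 : Tri (aT 7) (aT 9) (aT 9) nd243 nd244 nd245 := tri tr81 sa7 sa9 sa9
theorem U82 : Tri (aT 7) (aT 9) (aT 9) nd246 nd247 nd248 := tri tr82 sa7 sa9 sa9
theorem U83 : Tri (aT 7) (aT 7) (aT 7) nd249 nd250 nd251 := tri tr83 sa7 sa7 sa7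
theorem U84 : Tri (aT 8) (aT 8) (aT 8) nd252 nd253 nd254 := tri tr84 sa8 sa8 sa8
theorem U85 : Tri (aT 8) (aT 8) (aT 9) nd255 nd256 nd257 := tri tr85 sa8 sa8 sa9
theorem U86 : Tri (aT 8) (aT 8) (aT 8) nd258 nd259 nd260 := tri tr86 sa8 sa8 sa8
theorem U87 : Tri (aT 8) (aT 8) (aT 10) nd261 nd262 nd263 := tri tr87 sa8 sa8 sa10
theorem U88 : Tri (aT 8) (aT 10) (aT 8) nd264 nd265 nd266 := tri tr88 sa8 sa10 sa8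
theorem U89 : Tri (aT 8) (aT 8) (aT 8) nd267 nd268 nd269 := tri tr89 sa8 sa8 sa8
theorem U90 : Tri (aT 8) (aT 10) (aT 8) nd270 nd271 nd272 := tri tr90 sa8 sa10 sa8
theorem U91 : Tri (aT 8) (aT 10) (aT 8) nd273 nd274 nd275 := tri tr91 sa8 sa10 sa8
theorem U92 : Tri (aT 8) (aT 8) (aT 8) nd276 nd277 nd278 := tri tr92 sa8 sa8 sa8
theorem U93 : Tri (aT 8) (aT 8) (aT 8) nd279 nd280 nd281 := tri tr93 sa8 sa8 sa8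
theorem U94 : Tri (aT 8) (aT 11) (aT 8) nd282 nd283 nd284 := tri tr94 sa8 sa11 sa8
theorem U95 : Tri (aT 8) (aT 8) (aT 8) nd285 nd286 nd287 := tri tr95 sa8 sa8 sa8
theorem U96 : Tri (aT 8) (aT 10) (aT 10) nd288 nd289 nd290 := tri tr96 sa8 sa10 sa10
theorem U97 : Tri (aT 8) (aT 10) (aT 10) nd291 nd292 nd293 := tri tr97 sa8 sa10 sa10
theorem U98 : Tri (aT 8) (aT 10) (aT 10) nd294 nd295 nd296 := tri tr98 sa8 sa10 sa10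
theorem U99 : Tri (aT 8) (aT 10) (aT 9) nd297 nd298 nd299 := tri tr99 sa8 sa10 sa9
theorem U100 : Tri (aT 8) (aT 10) (aT 10) nd300 nd301 nd302 := tri tr100 sa8 sa10 sa10
theorem U101 : Tri (aT 8) (aT 10) (aT 8) nd303 nd304 nd305 := tri tr101 sa8 sa10 sa8
theorem U102 : Tri (aT 8) (aT 8) (aT 8) nd306 nd307 nd308 := tri tr102 sa8 sa8 sa8
theorem U103 : Tri (aT 8) (aT 8) (aT 9) nd309 nd310 nd311 := tri tr103 sa8 sa8 sa9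
theorem U104 : Tri (aT 8) (aT 9) (aT 8) nd312 nd313 nd314 := tri tr104 sa8 sa9 sa8
theorem U105 : Tri (aT 8) (aT 9) (aT 8) nd315 nd316 nd317 := tri tr105 sa8 sa9 sa8
theorem U106 : Tri (aT 8) (aT 8) (aT 11) nd318 nd319 nd320 := tri tr106 sa8 sa8 sa11
theorem U107 : Tri (aT 8) (aT 8) (aT 10) nd321 nd322 nd323 := tri tr107 sa8 sa8 sa10
theorem U108 : Tri (aT 8) (aT 8) (aT 10) nd324 nd325 nd326 := tri tr108 sa8 sa8 sa10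
theorem U109 : Tri (aT 8) (aT 10) (aT 10) nd327 nd328 nd329 := tri tr109 sa8 sa10 sa10
theorem U110 : Tri (aT 8) (aT 8) (aT 8) nd330 nd331 nd332 := tri tr110 sa8 sa8 sa8
theorem U111 : Tri (aT 9) (aT 10) (aT 10) nd333 nd334 nd335 := tri tr111 sa9 sa10 sa10
theorem U112 : Tri (aT 9) (aT 10) (aT 10) nd336 nd337 nd338 := tri tr112 sa9 sa10 sa10
theorem U113 : Tri (aT 9) (aT 9) (aT 9) nd339 nd340 nd341 := tri tr113 sa9 sa9 sa9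
theorem U114 : Tri (aT 10) (aT 10) (aT 10) nd342 nd343 nd344 := tri tr114 sa10 sa10 sa10
theorem U115 : Tri (aT 10) (aT 11) (aT 10) nd345 nd346 nd347 := tri tr115 sa10 sa11 sa10
theorem U116 : Tri (aT 10) (aT 10) (aT 10) nd348 nd349 nd350 := tri tr116 sa10 sa10 sa10
theorem U117 : Tri (aT 10) (aT 10) (aT 10) nd351 nd352 nd353 := tri tr117 sa10 sa10 sa10
theorem U118 : Tri (aT 10) (aT 10) (aT 11) nd354 nd355 nd356 := tri tr118 sa10 sa10 sa11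
theorem U119 : Tri (aT 10) (aT 10) (aT 10) nd357 nd358 nd359 := tri tr119 sa10 sa10 sa10

/-- the records -/
noncomputable def RL : List Rc := [⟨0, 2, 2, nd361⟩, ⟨0, 1, 1, nd0⟩, ⟨0, 0, 0, e1E⟩, ⟨1, 5, 5, nd33⟩, ⟨1, 3, 3, nd36⟩, ⟨1, 1, 1, nd39⟩,
  ⟨1, 4, 4, nd12⟩, ⟨1, 3, 3, nd42⟩, ⟨1, 1, 0, e1E⟩, ⟨1, 6, 6, nd15⟩, ⟨1, 7, 7, nd18⟩, ⟨1, 1, 2, nd10⟩,
  ⟨2, 2, 2, nd363⟩, ⟨2, 1, 1, nd9⟩, ⟨2, 5, 5, nd6⟩, ⟨2, 3, 3, nd3⟩, ⟨2, 2, 0, e1E⟩, ⟨3, 6, 6, nd45⟩, ⟨3, 9, 9, nd48⟩,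
  ⟨3, 4, 4, nd51⟩, ⟨3, 10, 10, nd54⟩, ⟨3, 6, 6, nd57⟩, ⟨3, 8, 8, nd60⟩, ⟨3, 8, 8, nd63⟩, ⟨3, 5, 5, nd66⟩,
  ⟨3, 3, 3, nd69⟩, ⟨3, 3, 5, nd72⟩, ⟨3, 7, 6, nd75⟩, ⟨3, 3, 3, nd78⟩, ⟨3, 7, 7, nd81⟩, ⟨3, 3, 2, e1E⟩,
  ⟨3, 3, 1, nd37⟩, ⟨3, 3, 1, nd43⟩, ⟨4, 8, 10, nd28⟩, ⟨4, 10, 10, nd84⟩, ⟨4, 8, 6, nd87⟩, ⟨4, 8, 8, nd90⟩,
  ⟨4, 8, 8, nd93⟩, ⟨4, 11, 11, nd96⟩, ⟨4, 9, 8, nd99⟩, ⟨4, 8, 10, nd102⟩, ⟨4, 4, 4, nd105⟩, ⟨4, 6, 4, nd108⟩,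
  ⟨4, 8, 8, nd111⟩, ⟨4, 4, 10, nd114⟩, ⟨4, 8, 10, nd117⟩, ⟨4, 8, 9, nd120⟩, ⟨4, 8, 4, nd123⟩, ⟨4, 8, 8, nd126⟩,
  ⟨4, 9, 9, nd129⟩, ⟨4, 4, 8, nd125⟩, ⟨4, 9, 10, nd132⟩, ⟨4, 8, 9, nd135⟩, ⟨4, 4, 9, nd138⟩, ⟨4, 6, 4, nd141⟩,
  ⟨4, 4, 7, nd144⟩, ⟨4, 4, 1, e1E⟩, ⟨4, 10, 10, nd147⟩, ⟨4, 10, 8, nd150⟩, ⟨4, 8, 8, nd153⟩, ⟨4, 8, 8, nd156⟩,
  ⟨4, 10, 4, nd115⟩, ⟨4, 8, 4, nd159⟩, ⟨4, 4, 8, nd22⟩, ⟨4, 9, 4, nd162⟩, ⟨4, 4, 5, nd165⟩, ⟨4, 6, 6, nd168⟩,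
  ⟨4, 4, 4, nd171⟩, ⟨4, 7, 6, nd174⟩, ⟨4, 4, 3, nd52⟩, ⟨5, 8, 8, nd177⟩, ⟨5, 10, 10, nd180⟩, ⟨5, 10, 10, nd183⟩,
  ⟨5, 5, 3, nd67⟩, ⟨5, 6, 6, nd186⟩, ⟨5, 11, 11, nd189⟩, ⟨5, 4, 4, nd167⟩, ⟨5, 11, 11, nd192⟩, ⟨5, 9, 9, nd195⟩,
  ⟨5, 5, 5, nd198⟩, ⟨5, 3, 3, nd74⟩, ⟨5, 5, 2, e1E⟩, ⟨5, 5, 5, nd201⟩, ⟨5, 5, 1, nd34⟩, ⟨6, 4, 8, nd89⟩,
  ⟨6, 9, 9, nd204⟩, ⟨6, 10, 10, nd207⟩, ⟨6, 8, 9, nd25⟩, ⟨6, 8, 8, nd210⟩, ⟨6, 4, 4, nd142⟩, ⟨6, 10, 8, nd213⟩,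
  ⟨6, 10, 10, nd216⟩, ⟨6, 8, 8, nd219⟩, ⟨6, 6, 6, nd222⟩, ⟨6, 4, 4, nd109⟩, ⟨6, 9, 9, nd225⟩, ⟨6, 6, 4, nd169⟩,
  ⟨6, 4, 6, nd170⟩, ⟨6, 6, 6, nd228⟩, ⟨6, 9, 6, nd231⟩, ⟨6, 8, 8, nd234⟩, ⟨6, 6, 3, nd46⟩, ⟨6, 6, 5, nd187⟩,
  ⟨6, 4, 7, nd176⟩, ⟨6, 6, 3, nd58⟩, ⟨6, 6, 1, e1E⟩, ⟨6, 3, 7, nd77⟩, ⟨7, 4, 4, nd146⟩, ⟨7, 8, 8, nd237⟩,
  ⟨7, 6, 4, nd175⟩, ⟨7, 8, 8, nd240⟩, ⟨7, 9, 9, nd243⟩, ⟨7, 9, 9, nd246⟩, ⟨7, 7, 7, nd249⟩, ⟨7, 6, 3, nd76⟩,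
  ⟨7, 7, 3, nd82⟩, ⟨7, 7, 1, e1E⟩, ⟨8, 8, 8, nd252⟩, ⟨8, 10, 4, nd103⟩, ⟨8, 8, 9, nd255⟩, ⟨8, 8, 8, nd258⟩,
  ⟨8, 8, 10, nd261⟩, ⟨8, 10, 8, nd264⟩, ⟨8, 10, 8, nd262⟩, ⟨8, 8, 8, nd267⟩, ⟨8, 10, 8, nd270⟩, ⟨8, 10, 8, nd273⟩,
  ⟨8, 8, 4, nd91⟩, ⟨8, 8, 8, nd276⟩, ⟨8, 8, 10, nd275⟩, ⟨8, 8, 8, nd279⟩, ⟨8, 8, 8, nd277⟩, ⟨8, 8, 8, nd280⟩,
  ⟨8, 4, 4, e1E⟩, ⟨8, 11, 8, nd282⟩, ⟨8, 8, 8, nd285⟩, ⟨8, 8, 4, nd154⟩, ⟨8, 8, 10, nd266⟩, ⟨8, 4, 10, nd152⟩,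
  ⟨8, 10, 10, nd288⟩, ⟨8, 10, 10, nd291⟩, ⟨8, 10, 10, nd294⟩, ⟨8, 10, 9, nd297⟩, ⟨8, 8, 4, nd112⟩, ⟨8, 10, 10, nd300⟩,
  ⟨8, 8, 4, nd94⟩, ⟨8, 8, 6, nd220⟩, ⟨8, 4, 8, nd155⟩, ⟨8, 10, 8, nd303⟩, ⟨8, 8, 8, nd306⟩, ⟨8, 4, 4, nd124⟩,
  ⟨8, 8, 8, nd254⟩, ⟨8, 4, 4, nd160⟩, ⟨8, 8, 4, nd157⟩, ⟨8, 8, 6, nd211⟩, ⟨8, 8, 4, nd127⟩, ⟨8, 6, 4, nd88⟩,
  ⟨8, 10, 4, nd118⟩, ⟨8, 10, 11, nd31⟩, ⟨8, 8, 9, nd309⟩, ⟨8, 9, 8, nd312⟩, ⟨8, 4, 8, nd113⟩, ⟨8, 9, 4, nd121⟩,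
  ⟨8, 9, 8, nd315⟩, ⟨8, 8, 11, nd318⟩, ⟨8, 8, 6, nd235⟩, ⟨8, 8, 10, nd321⟩, ⟨8, 10, 4, nd29⟩, ⟨8, 8, 8, nd308⟩,
  ⟨8, 8, 10, nd324⟩, ⟨8, 6, 10, nd215⟩, ⟨8, 9, 6, nd26⟩, ⟨8, 4, 9, nd101⟩, ⟨8, 10, 10, nd327⟩, ⟨8, 8, 8, nd307⟩,
  ⟨8, 8, 8, nd330⟩, ⟨8, 9, 4, nd136⟩, ⟨8, 8, 5, nd178⟩, ⟨8, 8, 3, nd61⟩, ⟨8, 8, 3, nd64⟩, ⟨8, 8, 7, nd241⟩,
  ⟨8, 8, 7, nd238⟩, ⟨9, 10, 4, nd133⟩, ⟨9, 8, 8, nd316⟩, ⟨9, 8, 8, nd311⟩, ⟨9, 10, 10, nd333⟩, ⟨9, 10, 10, nd336⟩,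
  ⟨9, 8, 8, nd313⟩, ⟨9, 4, 4, nd163⟩, ⟨9, 4, 8, nd122⟩, ⟨9, 8, 10, nd299⟩, ⟨9, 8, 8, nd257⟩, ⟨9, 9, 4, nd130⟩,
  ⟨9, 6, 8, e1E⟩, ⟨9, 8, 4, nd100⟩, ⟨9, 9, 6, nd226⟩, ⟨9, 9, 9, nd339⟩, ⟨9, 4, 8, nd137⟩, ⟨9, 9, 6, nd205⟩,
  ⟨9, 9, 7, nd244⟩, ⟨9, 9, 5, nd196⟩, ⟨9, 4, 4, nd140⟩, ⟨9, 6, 6, nd232⟩, ⟨9, 9, 3, nd49⟩, ⟨9, 9, 7, nd247⟩,
  ⟨10, 8, 8, nd271⟩, ⟨10, 10, 8, nd295⟩, ⟨10, 8, 4, nd151⟩, ⟨10, 8, 8, nd274⟩, ⟨10, 4, 8, nd119⟩, ⟨10, 8, 8, nd265⟩,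
  ⟨10, 8, 8, nd263⟩, ⟨10, 10, 8, nd289⟩, ⟨10, 10, 10, nd342⟩, ⟨10, 11, 10, nd345⟩, ⟨10, 10, 10, nd348⟩,
  ⟨10, 10, 8, nd301⟩, ⟨10, 8, 10, nd293⟩, ⟨10, 10, 9, nd334⟩, ⟨10, 10, 4, nd85⟩, ⟨10, 4, 8, nd104⟩,
  ⟨10, 10, 8, nd292⟩, ⟨10, 10, 10, nd349⟩, ⟨10, 10, 4, nd148⟩, ⟨10, 10, 9, nd337⟩, ⟨10, 10, 10, nd351⟩,
  ⟨10, 11, 8, nd32⟩, ⟨10, 4, 4, nd116⟩, ⟨10, 9, 8, nd298⟩, ⟨10, 8, 8, nd323⟩, ⟨10, 8, 8, nd304⟩, ⟨10, 10, 11, nd354⟩,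
  ⟨10, 8, 6, nd214⟩, ⟨10, 4, 8, e1E⟩, ⟨10, 10, 6, nd217⟩, ⟨10, 10, 10, nd357⟩, ⟨10, 10, 8, nd328⟩, ⟨10, 8, 8, nd326⟩,
  ⟨10, 10, 6, nd208⟩, ⟨10, 4, 9, nd134⟩, ⟨10, 10, 5, nd181⟩, ⟨10, 10, 5, nd184⟩, ⟨10, 10, 3, nd55⟩, ⟨11, 8, 10, e1E⟩,
  ⟨11, 8, 8, nd283⟩, ⟨11, 10, 10, nd346⟩, ⟨11, 11, 4, nd97⟩, ⟨11, 10, 10, nd356⟩, ⟨11, 8, 8, nd320⟩,
  ⟨11, 11, 5, nd190⟩, ⟨11, 11, 5, nd193⟩]

theorem RL_ok : ∀ r ∈ RL, r.Ok aT := by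
  simp only [RL, List.forall_mem_cons]
  exact ⟨rec361, U0.r, rec360, U11.r, U12.r, U13.r, U4.r, U14.r, U0.rot.r, U5.r, U6.r, U3.rot.r, rec363, U3.r, U2.r, U1.r,
    rec362, U15.r, U16.r, U17.r, U18.r, U19.r, U20.r, U21.r, U22.r, U23.r, U24.r, U25.r, U26.r, U27.r, U1.rot.r,
    U12.rot.r, U14.rot.r, U9.rot.r, U28.r, U29.r, U30.r, U31.r, U32.r, U33.r, U34.r, U35.r, U36.r, U37.r, U38.r, U39.r,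
    U40.r, U41.r, U42.r, U43.r, U41.rot.rot.r, U44.r, U45.r, U46.r, U47.r, U48.r, U4.rot.r, U49.r, U50.r, U51.r, U52.r,
    U38.rot.r, U53.r, U7.rot.r, U54.r, U55.r, U56.r, U57.r, U58.r, U17.rot.r, U59.r, U60.r, U61.r, U22.rot.r, U62.r,
    U63.r, U55.rot.rot.r, U64.r, U65.r, U66.r, U24.rot.rot.r, U2.rot.r, U67.r, U11.rot.r, U29.rot.rot.r, U68.r, U69.r,
    U8.rot.r, U70.r, U47.rot.r, U71.r, U72.r, U73.r, U74.r, U36.rot.r, U75.r, U56.rot.r, U56.rot.rot.r, U76.r, U77.r,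
    U78.r, U15.rot.r, U62.rot.r, U58.rot.rot.r, U19.rot.r, U5.rot.r, U25.rot.rot.r, U48.rot.rot.r, U79.r, U58.rot.r,
    U80.r, U81.r, U82.r, U83.r, U25.rot.r, U27.rot.r, U6.rot.r, U84.r, U34.rot.r, U85.r, U86.r, U87.r, U88.r, U87.rot.r,
    U89.r, U90.r, U91.r, U30.rot.r, U92.r, U91.rot.rot.r, U93.r, U92.rot.r, U93.rot.r, U7.r, U94.r, U95.r, U51.rot.r,
    U88.rot.rot.r, U50.rot.rot.r, U96.r, U97.r, U98.r, U99.r, U37.rot.r, U100.r, U31.rot.r, U73.rot.r, U51.rot.rot.r,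
    U101.r, U102.r, U41.rot.r, U84.rot.rot.r, U53.rot.r, U52.rot.r, U70.rot.r, U42.rot.r, U29.rot.r, U39.rot.r,
    U10.rot.r, U103.r, U104.r, U37.rot.rot.r, U40.rot.r, U105.r, U106.r, U78.rot.r, U107.r, U9.rot.rot.r,
    U102.rot.rot.r, U108.r, U71.rot.rot.r, U8.rot.rot.r, U33.rot.rot.r, U109.r, U102.rot.r, U110.r, U45.rot.r,
    U59.rot.r, U20.rot.r, U21.rot.r, U80.rot.r, U79.rot.r, U44.rot.r, U105.rot.r, U103.rot.rot.r, U111.r, U112.r,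
    U104.rot.r, U54.rot.r, U40.rot.rot.r, U99.rot.rot.r, U85.rot.rot.r, U43.rot.r, U8.r, U33.rot.r, U75.rot.r, U113.r,
    U45.rot.rot.r, U68.rot.r, U81.rot.r, U65.rot.r, U46.rot.rot.r, U77.rot.r, U16.rot.r, U82.rot.r, U90.rot.r,
    U98.rot.r, U50.rot.r, U91.rot.r, U39.rot.rot.r, U88.rot.r, U87.rot.rot.r, U96.rot.r, U114.r, U115.r, U116.r,
    U100.rot.r, U97.rot.rot.r, U111.rot.r, U28.rot.r, U34.rot.rot.r, U97.rot.r, U116.rot.r, U49.rot.r, U112.rot.r,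
    U117.r, U10.rot.rot.r, U38.rot.rot.r, U99.rot.r, U107.rot.rot.r, U101.rot.r, U118.r, U71.rot.r, U9.r, U72.rot.r,
    U119.r, U109.rot.r, U108.rot.rot.r, U69.rot.r, U44.rot.rot.r, U60.rot.r, U61.rot.r, U18.rot.r, U10.r, U94.rot.r,
    U115.rot.r, U32.rot.r, U118.rot.rot.r, U106.rot.rot.r, U63.rot.r, U64.rot.r, List.forall_mem_nil _⟩

noncomputable def KbT (i : Fin 12) : Subgroup Co1 := gp1 [(kT i).1.C, (kT i).2.C]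
noncomputable def LT : Fin 12 → List (ℕ × ℕ) := ![Frame0.L, Frame1.L, Frame2.L, Frame3.L, Frame4.L, Frame5.L, Frame6.L, Frame7.L, Frame8.L, Frame9.L, Frame10.L,
  Frame11.L]
def σT : Fin 12 → ℕ := ![42305421312000, 20891566080, 89181388800, 743178240, 16220160, 660602880, 79626240, 18393661440, 2903040, 88704000,
  3686400, 92897280]
def depT : Fin 12 → ℕ := ![0, 1, 1, 2, 2, 2, 2, 2, 3, 3, 3, 4]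

theorem frames_T (i : Fin 12) : σT i ≤ Nat.card (KbT i) ∧ Frame.Cover (KbT i) (LT i) := by
  have h : ∀ {L L' : List ℕ} {s M}, L = L' → s ≤ Nat.card (gp1 L) → Frame.Cover (gp1 L) M →
      s ≤ Nat.card (gp1 L') ∧ Frame.Cover (gp1 L') M := fun e h h' => e ▸ ⟨h, h'⟩
  fin_cases i
  exacts [h (by decide +kernel) Frame0.low Frame0.cover, h (by decide +kernel) Frame1.low Frame1.cover,
    h (by decide +kernel) Frame2.low Frame2.cover, h (by decide +kernel) Frame3.low Frame3.cover,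
    h (by decide +kernel) Frame4.low Frame4.cover, h (by decide +kernel) Frame5.low Frame5.cover,
    h (by decide +kernel) Frame6.low Frame6.cover, h (by decide +kernel) Frame7.low Frame7.cover,
    h (by decide +kernel) Frame8.low Frame8.cover, h (by decide +kernel) Frame9.low Frame9.cover,
    h (by decide +kernel) Frame10.low Frame10.cover, h (by decide +kernel) Frame11.low Frame11.cover]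

theorem lift_T (i : Fin 12) : KbT i ≤ (stabilizer CZ (aT i)).map rhoC := coded1.genL_le (ker1_le _) (by
  obtain ⟨h1, h2⟩ := kT_fix i
  simp only [List.forall_mem_cons]
  exact ⟨⟨_, ⟨_, h1.2, rfl⟩, El.lrep h1.1⟩, ⟨_, ⟨_, h2.2, rfl⟩, El.lrep h2.1⟩, List.forall_mem_nil _⟩)

noncomputable def Rc.fr (r : Rc) : ℕ := codeN (get 192 r.e.M 23)

theorem Rc.frame {r : Rc} (h : r ∈ RL) : code2 ((rhoC r.e.g)⁻¹ • om) = r.fr := by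
  rw [Rc.fr]; exact El.frame (RL_ok r h).1

attribute [irreducible] Rc.fr

theorem cover_T : ∀ i, ∀ t ∈ LT i, ∃ r ∈ RL, r.ty = i ∧ r.fr = t.1 := by decide +kernel

/-- the decidable part of an edge -/
def EdgeC (r r' : Rc) (m m' x : ℕ) : Prop := depT r'.ty < depT r.ty ∧ r.n1 ≠ r.n2 ∧
  (RL.filter fun l => l.ty = r.ty ∧ (l.n1 = r.n1 ∧ l.n2 = r.n2 ∨ l.n1 = r.n2 ∧ l.n2 = r.n1)).length = 1 ∧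
  (r.fr, m) ∈ LT r.ty ∧ (r'.fr, m') ∈ LT r'.ty ∧ 0 < m' ∧
  (m * (wT r'.ty * σT r'.ty) ≤ wT r.ty * σT r.ty * m' ∨
    m * (wT r'.ty * σT r'.ty) ≤ 2 * (wT r.ty * σT r.ty * m') ∧ parN (r'.e.al x >>> 12) = true)

noncomputable instance instDecEdgeC (r r' : Rc) (m m' x : ℕ) : Decidable (EdgeC r r' m m' x) := by
  unfold EdgeC; infer_instance

def EdgeP (i : Fin 12) : Prop := ∃ (k k' : {r // r ∈ RL}) (m m' : ℕ), k.1.ty = i ∧ depT k'.1.ty < depT i ∧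
    (∃ t, (t = tau ∨ t = tau⁻¹) ∧ ∃ s n : ZMod 2,
      t • (k'.1.e.g : Aut) • aT k'.1.ty = qV (qe s (n • Om) 0) • (k.1.e.g : Aut) • aT k.1.ty) ∧
    k.1.n1 ≠ k.1.n2 ∧ (∀ l : {r // r ∈ RL}, l.1.ty = i → s(l.1.n1, l.1.n2) = s(k.1.n1, k.1.n2) → l = k) ∧
    (orbit (KbT i) ((rhoC k.1.e.g)⁻¹ • om)).ncard ≤ m ∧ 0 < m' ∧
    m' ≤ (orbit (KbT k'.1.ty) ((rhoC k'.1.e.g)⁻¹ • om)).ncard ∧
    (m * (wT k'.1.ty * σT k'.1.ty) ≤ wT i * σT i * m' ∨ m * (wT k'.1.ty * σT k'.1.ty) ≤ 2 * (wT i * σT i * m') ∧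
      ∃ q ∈ WT k'.1.ty, ¬ Commute ((k'.1.e.g : Aut) * qV q * (k'.1.e.g : Aut)⁻¹) (qV aOm))

theorem edge_of {r r' : Rc} (hr : r ∈ RL) (hr' : r' ∈ RL) {t : Aut} (ht : t = tau ∨ t = tau⁻¹)
    (hv : Vr (t • (r'.e.g : Aut) • aT r'.ty) ((r.e.g : Aut) • aT r.ty)) (m m' : ℕ) {x : ℕ} (hx : qN x ∈ WT r'.ty)
    (h : EdgeC r r' m m' x) : EdgeP r.ty := by
  obtain ⟨h1, h2, h3, h4, h5, h6, h7⟩ := h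
  refine ⟨⟨r, hr⟩, ⟨r', hr'⟩, m, m', rfl, h1, ⟨t, ht, hv⟩, h2, fun l e1 e2 => ?_,
    ((frames_T _).2.2 _ h4 _ (Rc.frame hr)).le, h6, ((frames_T _).2.2 _ h5 _ (Rc.frame hr')).ge,
    h7.imp_right fun h => ⟨h.1, _, hx, fun e => ?_⟩⟩
  · obtain ⟨y, hy⟩ := List.length_eq_one_iff.1 h3
    have : ∀ l ∈ RL, l.ty = r.ty ∧ (l.n1 = r.n1 ∧ l.n2 = r.n2 ∨ l.n1 = r.n2 ∧ l.n2 = r.n1) → l = y := fun l h h' =>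
      List.mem_singleton.1 (hy ▸ List.mem_filter.2 ⟨h, decide_eq_true h'⟩)
    exact Subtype.ext ((this _ l.2 ⟨e1, Sym2.eq_iff.1 e2⟩).trans (this r hr ⟨rfl, .inl ⟨rfl, rfl⟩⟩).symm)
  · rw [El.conj (RL_ok r' hr').1, Commute, SemiconjBy, ← map_mul, ← map_mul, qV_injective.eq_iff, mul_swap,
      odd_comm h.2, zp_one] at e
    exact zQ_mul_ne _ e

theorem edge_of' {i j k l m n : Fin 12} {e f : El} (p q : ℕ) (hr : RL[p]? = some ⟨i, j, k, e⟩)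
    (hr' : RL[q]? = some ⟨l, m, n, f⟩) {t : Aut} (ht : t = tau ∨ t = tau⁻¹)
    (hv : Vr (t • (f.g : Aut) • aT l) ((e.g : Aut) • aT i)) (a b : ℕ) {x : ℕ} (hx : qN x ∈ WT l)
    (h : EdgeC ⟨i, j, k, e⟩ ⟨l, m, n, f⟩ a b x) : EdgeP i :=
  edge_of (List.mem_of_getElem? hr) (List.mem_of_getElem? hr') ht hv a b hx h

theorem v361 : Vr (tau • (nd361.g : Aut) • aT 0) ((e1E.g : Aut) • aT 2) := by rw [b361, aT2]; exact vr_id _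

theorem E1 : EdgeP 1 :=
  edge_of' (j := 1) (k := 0) (m := 1) (n := 1) 8 1 rfl rfl (.inl rfl) U0.h1 1 4147200 (wf0 0 (by norm_num)) (by decide +kernel)
theorem E2 : EdgeP 2 :=
  edge_of' (j := 2) (k := 0) (m := 2) (n := 2) 16 0 rfl rfl (.inl rfl) v361 135 4098600 (wf0 0 (by norm_num)) (by decide +kernel)
theorem E3 : EdgeP 3 :=
  edge_of' (j := 3) (k := 2) (m := 3) (n := 3) 30 15 rfl rfl (.inl rfl) U1.h1 63 3870720 (wf2 (j := 7) (by norm_num)) (by decide +kernel)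
theorem E4 : EdgeP 4 :=
  edge_of' (j := 4) (k := 1) (m := 4) (n := 4) 56 6 rfl rfl (.inl rfl) U4.h1 1 2637824 (wf1 1 (by norm_num)) (by decide +kernel)
theorem E5 : EdgeP 5 :=
  edge_of' (j := 5) (k := 1) (m := 5) (n := 5) 83 3 rfl rfl (.inl rfl) U11.h1 240 485760 (wf1 1 (by norm_num)) (by decide +kernel)
theorem E6 : EdgeP 6 :=
  edge_of' (j := 6) (k := 1) (m := 6) (n := 6) 105 9 rfl rfl (.inl rfl) U5.h1 27 3627008 (wf1 0 (by norm_num)) (by decide +kernel)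
theorem E7 : EdgeP 7 :=
  edge_of' (j := 7) (k := 1) (m := 7) (n := 7) 116 10 rfl rfl (.inl rfl) U6.h1 891 518144 (wf1 0 (by norm_num)) (by decide +kernel)
theorem E8 : EdgeP 8 :=
  edge_of' (j := 9) (k := 6) (m := 8) (n := 9) 171 87 rfl rfl (.inl rfl) U8.rot.h1 2520 276480 (qN_zero ▸ one_mem _) (by decide +kernel)
theorem E9 : EdgeP 9 :=
  edge_of' (j := 6) (k := 8) (m := 8) (n := 9) 193 87 rfl rfl (.inr rfl) U8.h1.inv 154000 276480 (qN_zero ▸ one_mem _) (by decide +kernel)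
theorem E10 : EdgeP 10 :=
  edge_of' (j := 8) (k := 6) (m := 10) (n := 8) 232 90 rfl rfl (.inl rfl) U71.h1 9600 829440 (qN_zero ▸ one_mem _) (by decide +kernel)
theorem E11 : EdgeP 11 :=
  edge_of' (j := 8) (k := 10) (m := 10) (n := 11) 243 158 rfl rfl (.inr rfl) U10.h1.inv 3870720 120960 (qN_zero ▸ one_mem _) (by decide +kernel)

theorem edge_all (i : Fin 12) (hi : i ≠ 0) : EdgeP i := by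
  fin_cases i
  exacts [absurd rfl hi, E1, E2, E3, E4, E5, E6, E7, E8, E9, E10, E11]

/-- the certificate -/
noncomputable def cert : Cert (Fin 12) {r // r ∈ RL} where
  a := aT
  i0 := 0
  r0 := qN 0xc74fff
  short := short_r0
  a0 := rfl
  mem := ob_aT
  distinct := aT_distinct
  ty k := k.1.ty
  g k := k.1.e.g
  Kb := KbT
  lift i _ hx := let ⟨s, hs, e⟩ := lift_T i hx; ⟨s, e, hs⟩
  σ := σT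
  σ_le i := (frames_T i).1
  W := WT
  fix _ _ h := h
  w := wT
  w_le := w_le
  cover i v hv :=
    let ⟨t, ht, h⟩ := (frames_T i).2.1 v hv
    let ⟨r, hr, e1, e2⟩ := cover_T i t ht
    ⟨⟨r, hr⟩, e1, h _ ((Rc.frame hr).trans e2)⟩
  n1 k := k.1.n1
  n2 k := k.1.n2
  nb1 k := (RL_ok _ k.2).2.1
  nb2 k := (RL_ok _ k.2).2.2
  base := by decide +kernel
  depth := depT
  edge := edge_all

end Cfsg.Lib.Griess
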