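import Cfsg.Agent.Lib.Mon.EngV
import Cfsg.Agent.Lib.Mon.Sigma

/-! Codes of short elements, the blocks `X` of `τ • ax r`, lower bounds for subsets of `Q`, invariants. -/

namespace Cfsg.Lib.Griess

open Finset Matrix Cfsg.Lib.Calc Cfsg.Lib.F2 Cfsg.Lib.Leech Cfsg.Spor
open Cfsg.Lib.Golay (gIdx gPt cw pc)

set_option maxRecDepth 100000

theorem qN_mk {m : ℕ} (hm : m < 4096) {σ : ℕ} (hσ : σ < 4096) : qN (m + 4096 * σ) = ⟨0, cdN m, csN σ⟩ := by
  refine Q.ext ?_ (cdN_congr ?_) (congrArg csN ?_)
  · simp [qN, Nat.testBit_lt_two_pow (show m + 4096 * σ < 2 ^ 24 by omega), z2_false]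
  · rw [Nat.and_two_pow_sub_one_eq_mod _ 12, Nat.and_two_pow_sub_one_eq_mod _ 12]; omega
  · rw [Nat.shiftRight_eq_div_pow]; omega

theorem cdN_cnd (b : Bool) : cdN (cnd b 4095 0) = z2 b • Om := by
  cases b <;> simp [cdN_Om, cdN_zero, z2]

/-- the code of `eP n i j` -/
noncomputable def cP (n : Bool) (i j : ℕ) : ℕ :=
  Nat.add (cnd n 4095 0) (Nat.mul 4096 (Nat.xor (get 12 e1T i) (get 12 e1T j)))

theorem qN_cP (n : Bool) {i j : ℕ} (hi : i < 24) (hj : j < 24) : qN (cP n i j) = eP (z2 n) (gPt i) (gPt j) :=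
  (qN_mk (by cases n <;> simp) (Nat.xor_lt_two_pow (get_lt 12 _ _) (get_lt 12 _ _))).trans (by
    rw [cdN_cnd]; erw [csN_xor]; rw [← cs_e1 hi, ← cs_e1 hj]; rfl)

theorem cs_syn {x : ℕ} (h : x < 2 ^ 24) : cs (wN x) = csN (appA 12 e1T x 24) := by
  have : ∀ k ≤ 24, cs (wN (x % 2 ^ k)) = csN (appA 12 e1T x k) := fun k hk => by
    induction k with
    | zero => simp [Nat.mod_one, wN_zero, appA_zero, csN_zero]
    | succ k ih =>
      have e : x % 2 ^ (k + 1) = (if x.testBit k then 2 ^ k else 0) ^^^ x % 2 ^ k := Nat.eq_of_testBit_eq fun i => by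
        rcases lt_trichotomy i k with h | rfl | h
        · split_ifs <;> simp [Nat.testBit_mod_two_pow, h, h.le, Nat.lt_succ_iff, Nat.testBit_two_pow_of_ne h.ne']
        · split_ifs with h <;> simp [Nat.testBit_mod_two_pow, h]
        · split_ifs <;> simp [Nat.testBit_mod_two_pow, h.not_gt, h.not_ge, Nat.lt_succ_iff, Nat.testBit_two_pow_of_ne h.ne]
      rw [e, wN_xor, cs_add, ih (by omega), appA_succ, csN_xor]
      split_ifs
      · rw [wN_two_pow hk, cs_e1 hk]
      · rw [wN_zero, csN_zero]; rfl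
  rw [← this 24 le_rfl, Nat.mod_eq_of_lt h]

/-- the code of `eT o x` -/
noncomputable def cT (o x : ℕ) : ℕ :=
  Nat.add (Nat.xor o (cnd (bit (pc x) 1) 4095 0)) (Nat.mul 4096 (Nat.xor (thN o) (appA 12 e1T x 24)))

theorem qN_cT {o x : ℕ} (ho : o < 4096) (hx : x < 2 ^ 24) : qN (cT o x) = eT (cdN o) (wN x) :=
  (qN_mk (Nat.xor_lt_two_pow (n := 12) ho (by cases bit (pc x) 1 <;> simp))
    (Nat.xor_lt_two_pow (get_lt 12 _ _) (appA_lt 12 _ _ _))).trans (by
    erw [cdN_xor, csN_xor]
    rw [cdN_cnd, show csN (get 12 thT _) = _ from (cs_th o).symm, ← cs_syn hx, eT, hw, wt_wN hx, bit_eq, ← get_one, get_eq]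
    simp [qe])

theorem sum_range_mul {M : Type*} [AddCommMonoid M] (f : ℕ → M) (A B : ℕ) :
    ∑ t ∈ range (B * A), f t = ∑ a ∈ range A, ∑ b ∈ range B, f (B * a + b) := by
  induction A with
  | zero => simp
  | succ A ih => rw [sum_range_succ, ← ih, mul_add, mul_one, sum_range_add]

theorem X_expand (v : V) (y : Q) : 2 * v.1.2.1 y =
    ∑ i, ∑ j, (((co v).y i j + (co v).w i j) * dX (eP 0 i j) y + ((co v).y i j - (co v).w i j) * dX (eP 1 i j) y) +
    (∑ O ∈ Oct, ∑ δ ∈ sub O, (co v).t O δ * dX (eT O δ) y) + ∑ d, ∑ i, (co v).u1 d i * dX (eW d i) y := by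
  have := sum_dX y v.1.2.1
  rw [v.2.2.1, sub_neg_eq_add, ← two_mul, sum_short (fun x => by rw [v.2.2.1, dX_z, neg_mul_neg])
    fun x hx => by rw [v.2.2.2 x hx, zero_mul]] at this
  refine this.symm.trans (congrArg₂ _ (congrArg₂ _ ?_ ?_) ?_) <;> refine sum_congr rfl fun O hO => sum_congr rfl fun δ hδ => ?_
  · rw [XP_eq, XP_eq, dX_comm y, dX_comm y]; simp [sub_eq_add_neg]
  · simp only [co, Good, mem_Oct.1 hO, hδ, true_and, ite_mul, zero_mul, dX_comm y]
  · rw [dX_comm y]; rfl

/-- index `576 n + 24 i + j` -/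
noncomputable def fP (s : ℕ → ℕ → Bool) (t : ℕ) : ℕ :=
  zN (s (t % 576 / 24) (t % 24)) (cP (Nat.ble 576 t) (t % 576 / 24) (t % 24))

theorem sum_fP (s : ℕ → ℕ → Bool) (w : ℕ → ℕ → ℕ) (y : Q) :
    ∑ t ∈ range 1152, (w (t % 576 / 24) (t % 24) : ℝ) * dX (qN (fP s t)) y = ∑ i, ∑ j,
      sg (z2 (s (gIdx i) (gIdx j))) * w (gIdx i) (gIdx j) * (dX (eP 0 i j) y + dX (eP 1 i j) y) := by
  rw [sum_range_add _ 576 576, ← sum_add_distrib, sum_range_mul _ 24 24, ← sum_golayPt]
  refine sum_congr rfl fun i _ => ?_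
  rw [← sum_golayPt]
  refine sum_congr rfl fun j _ => ?_
  have hi := gIdx_lt i
  have hj := gIdx_lt j
  have h1 : Nat.ble 576 (24 * gIdx i + gIdx j) = false := Bool.eq_false_iff.2 fun h => by have := ble_iff.1 h; omega
  have h2 : Nat.ble 576 (576 + (24 * gIdx i + gIdx j)) = true := ble_iff.2 (by omega)
  simp only [fP, h1, h2, qN_zN, dX_zp, show (24 * gIdx i + gIdx j) % 576 / 24 = gIdx i by omega,
    show (576 + (24 * gIdx i + gIdx j)) % 576 / 24 = gIdx i by omega, show (24 * gIdx i + gIdx j) % 24 = gIdx j by omega,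
    show (576 + (24 * gIdx i + gIdx j)) % 24 = gIdx j by omega, qN_cP _ hi hj, gPt_gIdx, z2_false, z2_true]
  ring

noncomputable def s1 (i j : ℕ) : Bool := Bool.xor (Nat.beq i 23) (Nat.beq j 23)
noncomputable def w1 (t : ℕ) : ℕ := cnd (Nat.beq (t % 576 / 24) (t % 24)) 0 (cnd (s1 (t % 576 / 24) (t % 24)) 3 1)

theorem xf_W : XF 8 1152 w1 (fP s1) (tau • ax (eW 0 none)) := fun y => by
  have h := co_tau_ax_W 0 0 none
  rw [zp_zero, one_mul] at h
  refine Eq.trans ?_ (sum_fP s1 (fun i j => cnd (Nat.beq i j) 0 (cnd (s1 i j) 3 1)) y).symm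
  rw [sqrt_pow 4, show (2 : ℝ) ^ 4 = 8 * 2 by norm_num, mul_assoc, X_expand, h]
  simp only [Pi.zero_apply, zero_mul, sum_const_zero, add_zero, sub_zero, mul_sum, ← add_mul, ← mul_add]
  refine sum_congr rfl fun i _ => sum_congr rfl fun j _ => ?_
  have : ∀ i j : Pt, (if i = j then 0 else vW 0 none i * vW 0 none j) =
      sz (z2 (s1 (gIdx i) (gIdx j))) * (cnd (Nat.beq (gIdx i) (gIdx j)) 0 (cnd (s1 (gIdx i) (gIdx j)) 3 1) : ℕ) := by
    decide +kernel
  have h1 := congrArg (Int.cast : ℤ → ℝ) (this i j)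
  push_cast [cast_sz] at h1
  rw [← h1, ← mul_assoc]
  congr 1
  split_ifs <;> simp; ring

/-- the subsets of the octad `cdN 1` -/
noncomputable def spr (s : ℕ) : ℕ := appA 24 0x800000400000040000020000010000004000001000000001 s 8

theorem wt_O1 : wt (cdN 1) = 8 := (wt_wN (by decide +kernel)).trans (by decide +kernel)

theorem sum_sub1 {M : Type*} [AddCommMonoid M] (g : W → M) : ∑ δ ∈ sub (cdN 1), g δ = ∑ s ∈ range 256, g (wN (spr s)) := by
  have h1 : ∀ s < 256, spr s &&& cw (1 &&& 4095) = spr s ∧ app 24 0x80000040000000000000000000000020000010000008000000000004000000000002000000000000000000000000000000000000000000000000000000000000000000000001 (spr s) = s := by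
    decide +kernel
  have hi : Set.InjOn (fun s => wN (spr s)) (range 256) := fun a ha b hb e => by
    rw [← (h1 a (mem_range.1 ha)).2, ← (h1 b (mem_range.1 hb)).2]
    refine Nat.eq_of_testBit_eq fun j => z2_inj ?_
    rw [z2_app, z2_app]
    exact sum_congr rfl fun i hi => by rw [← wN_gPt _ (mem_range.1 hi), ← wN_gPt _ (mem_range.1 hi), show wN _ = wN _ from e]
  rw [← sum_image hi, eq_of_subset_of_card_le (s := image _ _) (t := sub (cdN 1))]
  · intro δ hδ
    obtain ⟨s, hs, rfl⟩ := mem_image.1 hδ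
    exact mem_sub.2 ((wN_land _ _).symm.trans (congrArg wN (h1 s (mem_range.1 hs)).1))
  · rw [card_sub, wt_O1, card_image_of_injOn hi]; rfl

noncomputable def w2' (i j : ℕ) : ℕ := cnd (Nat.beq i j) 0 (get 1 0xc75001 i * get 1 0xc75001 j)
noncomputable def w2 (t : ℕ) : ℕ :=
  cnd (blt t 1152) (w2' (t % 576 / 24) (t % 24)) (cnd (blt t 1408) (1 - pc (spr (t - 1152)) % 2) 0)
noncomputable def f2' (t : ℕ) : ℕ := cnd (blt t 1152) (fP (fun _ _ => false) t) (zN true (cT 1 (spr (t - 1152))))

theorem xf_T' : XF 4 1416 w2 f2' (tau • ax (eT (cdN 1) 0)) := fun y => by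
  have h0 : ∀ {a b}, a ≤ b → blt b a = false := fun h => Bool.eq_false_iff.2 fun e => (blt_iff.1 e).not_ge h
  rw [sum_range_add _ 1408 8, sum_range_add _ 1152 256, sum_eq_zero (s := range 8) fun t _ => by
    simp [w2, h0 (show 1152 ≤ 1408 + t by omega), h0 (show 1408 ≤ 1408 + t by omega)], add_zero,
    sum_congr (s₁ := range 1152) rfl fun t ht => by
      rw [w2, f2', blt_iff.2 (mem_range.1 ht), cnd_true, cnd_true], sum_fP _ w2',
    sqrt_pow 2, show (2 : ℝ) ^ 2 = 2 * 2 by norm_num, mul_assoc, X_expand, co_tau_ax_T wt_O1]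
  simp only [Pi.zero_apply, zero_mul, sum_const_zero, add_zero, sub_zero, mul_add (2 : ℝ), mul_sum, ← mul_add]
  congr 1
  · refine sum_congr rfl fun i _ => sum_congr rfl fun j _ => ?_
    have : ∀ i j : Pt, (if i = j then 0 else vz ((cdN 1 : W) i) * vz ((cdN 1 : W) j)) = w2' (gIdx i) (gIdx j) := by
      decide +kernel
    have h1 := congrArg (Int.cast : ℤ → ℝ) (this i j)
    push_cast [cast_vz] at h1
    rw [← h1, ← mul_assoc]
    congr 1
    split_ifs <;> simp [z2_false]; ring
  · rw [sum_eq_single_of_mem _ (mem_Oct.2 wt_O1) fun O _ h => by simp [h], sum_sub1]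
    refine sum_congr rfl fun s hs => ?_
    have h1 : spr s < 2 ^ 24 := appA_lt _ _ _ _
    have h2 : wN (spr s) ∈ sub (cdN 1) := by
      by_contra e
      have := sum_sub1 fun δ => if δ = wN (spr s) then 1 else 0
      rw [sum_ite_eq', if_neg e, eq_comm, sum_eq_zero_iff] at this
      simpa using this s hs
    rw [w2, f2', h0 (show 1152 ≤ 1152 + s by omega), blt_iff.2 (show 1152 + s < 1408 by have := mem_range.1 hs; omega),
      cnd_false, cnd_false, cnd_true, Nat.add_sub_cancel_left, qN_zN, qN_cT (by norm_num) h1, dX_zp, ← wt_wN h1]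
    simp only [Good, wt_O1, h2, true_and, ← wt_cast, ZMod.natCast_eq_zero_iff_even]
    rcases Nat.even_or_odd (wt (wN (spr s))) with e | e
    · simp [e, Nat.even_iff.1 e, z2_true]; ring
    · simp [Nat.not_even_iff_odd.2 e, Nat.odd_iff.1 e]

/-- the 120 short elements in the block `X` of `τ • ax (eT (cdN 1) 0)` -/
def f2 (t : ℕ) : ℕ := get 25 0xfdc000fe5bffbec0003f4e001f51000fa33ffbcf4003e54001ef5000f710007a64003d1cffee78000f378007850003c06ffedff7ff6f4000764c003b08001d72000eb2bffb479ffda12ffecd67ff660bffb2e800395affec5b000e2600070ddffd840001bd2000de2bffaef8003752001b5f000da43ffaccc003648001afb7ff5763ffaa5dffd500001a767ff530bffa869ffd41a0019f1000cf33ffa675ffd314ffe97c7ff4b5800644000320e0018d87ff467bffa2d0003146ffe855000c2100060e5ffd05c0017897ffbc48001dfdffeefe0007687ffbb40001c4dffee260006cc7ffb660001959ffecac00063a7ffb1d00018b5ffec5a0005d17ffae88001719ffeb8c0005aa7ffad50001571ffeab800054b7ffaa5800149dffea4e0004f87ffa7c00011d5ffe8ea0003877ff9c38000dc5ffe6e20003667ff9b30000c75ffe63a0002d57ff96a8000ae5ffe5720002ae7ff957000093dffe49e0001b37ff8d980004f9ffe27c0000f67ff87b00001edffe0f6000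 t

def p2 (t : ℕ) : ℕ := get 7 0xea00067017b60000e6580a4000400139e008a00057c40007001a6d8001cb000b20006b7c0004c0156380920003b010a8000197b80dc0005c0135f808c00054c20007301aac00ec00064017778000ea400a20004394000380106980019ba00da0005f01c7180b4000687a0004f015a2000112b009e0003dd00005a018f880be0006d01d3300014e080700004a86000510121d0001bee80c8000760163500e600061a80004600fe680b80006e01df28001421007600049011ea80980003ed6000590183900016f480e000062ae0004500f27008000052012dc8001b2f00ce00075004400000bc987007c01900000000000000000002b2200000009c08b00b403300000000000000000001d0000000000000000000000000000000000000000000000000000000000000000000000000000000000000000000000000000000000000000000000000000005e9c00000011b5005c00d0000000000000000000032604000008c00f00a40310000000000000000000210e2c00000d4780006c0250000000000000000000370000000000000000000000000000000000000000003eb4000005d49b000000500000000000000000001500000000000000000000000000000000000000000032cc00000358a500140000000000000000000000090000000000000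000000000000000000000000000000000000000000000000000000000000000000000000000000000000000000000000000000000000000000000000000000000000000000000000000000000000000000000000000000000000000000000000000000000000000000000000000000000000000000000000000000000000000000000000000000000000000000000000000000000000000000000000000000000000000000000000000000000000000000000000000000000000000000000000000000000000000000000000000000000000000000000000000000000000000005674000000d0b70054009000000000000000000000004000000b8906007801800000000000000000002a2000000009800a00b003200000000000000000001c0000000000000000000000000000000000000000000000000000000000000000000000000000000000000000000000000000000000000000000000000000005c980000001134005800c0000000000000000000022400000008800e00a00300000000000000000000200c2800000d070000680240000000000000000000360000000000000000000000000000000000000000003cb0000005941a000000400000000000000000001400000000000000000000000000000000000000000030c800000318240010000000000000000000000008000000000000000000000000000000000000000000000000000000000000000000000000000000000000000000000000000000000000000000000000000000000000000000000000000000000000000000000000000000000000000000000000000000000000000000000000000000000000000000000000000000000000000000000000000000000000000000000000000000000000000000000000000000000000000000000000000000000000000000000000000000000000000000000000000000000000000000000000000000000000000000000000000000000000000000000000000000547000000090360050008000000000000000000000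 t

theorem xf_T : XF 2 120 (fun _ => 1) f2 (tau • ax (eT (cdN 1) 0)) := by
  have : allLt 120 (fun s => Nat.beq (sumC2 (fun t => Nat.beq (p2 t) s) w2 59) 2) = true := by
    decide +kernel
  refine xf_T'.compress (π := p2) (by decide +kernel) fun s hs => Eq.trans ?_ (beq_iff.1 (of_allLt this hs))
  simp only [sumC2_eq, beq_iff]

/-! ### lower bounds for subsets of `Q` -/

theorem card_ge {W : Subgroup Q} {k B D : ℕ} (hB : ∀ j < k, qN (get 25 B j) ∈ W)
    (hD : allLt k (fun j => Nat.beq (app 24 D (app 24 piT (get 25 B j))) (2 ^ j)) = true) :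
    2 ^ k ≤ Nat.card W ∧ (zQ ∈ W → 2 ^ (k + 1) ≤ Nat.card W) := by
  let ψ (q : Q) := app 24 D (code2 (piQ q))
  have h1 : ∀ m ≤ k, ∀ t < 2 ^ m, ∃ q ∈ W, ψ q = t := fun m hm => by
    induction m with
    | zero => exact fun t ht => ⟨1, one_mem _, by
        rw [show t = 0 by omega, ← app_zero 24 D, ← app_zero 24 piT, ← code2_qN, qN_zero]⟩
    | succ m ih =>
      intro t ht
      by_cases h : t < 2 ^ m
      · exact ih (by omega) t h
      · obtain ⟨q, hq, e⟩ := ih (by omega) (t - 2 ^ m) (by omega)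
        refine ⟨_, mul_mem (hB m hm) hq, ?_⟩
        simp only [ψ, piQ_mul, code2_add, app_xor, code2_qN, beq_iff.1 (of_allLt hD hm)] at e ⊢
        have : t - 2 ^ m < 2 ^ m := by omega
        rw [e]
        refine Eq.trans ?_ ((Nat.two_pow_add_eq_or_of_lt this 1).symm.trans (by omega))
        exact Nat.eq_of_testBit_eq fun i => by
          by_cases hi : m = i
          · simp [← hi, Nat.testBit_lt_two_pow this]
          · simp [Nat.testBit_two_pow_of_ne hi]
  have h2 : ∀ (f : Q → ℕ) (n : ℕ), (∀ t < n, ∃ q ∈ W, f q = t) → n ≤ Nat.card W := fun f n h => by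
    rw [← Set.ncard_Iio_nat n]
    exact (Set.ncard_le_ncard (fun t ht => h t ht) ((Set.toFinite _).image f)).trans (Set.ncard_image_le (Set.toFinite (W : Set Q)))
  refine ⟨h2 ψ _ (h1 k le_rfl), fun hz => h2 (fun q => 2 * ψ q + q.s.val) _ fun t ht => ?_⟩
  obtain ⟨q, hq, e⟩ := h1 k le_rfl (t / 2) (by omega)
  by_cases h : q.s.val = t % 2
  · exact ⟨q, hq, by omega⟩
  · refine ⟨_, mul_mem hz hq, ?_⟩
    have : (zQ * q).s.val = t % 2 := by
      rcases z2_cases q.s with e | e <;> simp [e, ZMod.val_one] at h ⊢ <;> omega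
    simp only [ψ, piQ_zQ_mul] at e ⊢; omega

/-- entries: code (25 bits), generator (1 bit), parent (13 bits), depth -/
noncomputable def chkO (act : ℕ → ℕ → ℕ) (root : ℕ → Bool) (N D : ℕ) : Bool :=
  allBig N fun t => forceB (get 48 D t) fun r => forceB (get 48 D (get 13 (Nat.shiftRight r 26) 0)) fun p =>
    band (bor (Nat.beq t 0) (blt (get 25 (get 48 D (Nat.pred t)) 0) (get 25 r 0)))
      (bor (root (get 25 r 0)) (band (band (blt (get 13 (Nat.shiftRight r 26) 0) N)
        (blt (Nat.shiftRight p 39) (Nat.shiftRight r 39))) (Nat.beq (act (get 1 r 25) (get 25 p 0)) (get 25 r 0))))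

theorem chkO_spec {act : ℕ → ℕ → ℕ} {root : ℕ → Bool} {N D : ℕ} (h : chkO act root N D = true) {P : Q → Prop}
    (ha : ∀ j x, P (qN x) → P (qN (act j x))) (hr : ∀ x, root x = true → P (qN x)) : N ≤ {q | P q}.ncard := by
  simp only [chkO, allBig_iff, forceB_eq, band_eq_true, bor_eq_true, blt_iff, beq_iff] at h
  have h1 : ∀ n, ∀ t < N, Nat.shiftRight (get 48 D t) 39 = n → P (qN (get 25 (get 48 D t) 0)) := fun n => by
    induction n using Nat.strong_induction_on with
    | _ n ih =>
      rintro t ht rfl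
      rcases (h t ht).2 with e | ⟨⟨e1, e2⟩, e3⟩
      exacts [hr _ e, e3 ▸ ha _ _ (ih _ e2 _ e1 rfl)]
  have h2 : StrictMonoOn (fun t => get 25 (get 48 D t) 0) (Set.Iio N) := fun a _ b hb hab => by
    induction b, hab using Nat.le_induction with
    | base => exact (h _ hb).1.resolve_left (by simp)
    | succ b _ ih => exact (ih (Nat.lt_of_succ_lt hb)).trans ((h _ hb).1.resolve_left (by simp))
  rw [← Set.ncard_Iio_nat N, ← Set.InjOn.ncard_image (f := fun t => qN (get 25 (get 48 D t) 0))
    fun a ha b hb e => h2.injOn ha hb (qN_inj (get_lt _ _ _) (get_lt _ _ _) e)]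
  exact Set.ncard_le_ncard (by rintro _ ⟨t, ht, rfl⟩; exact h1 _ t ht rfl)

/-! ### invariants of `C` -/

noncomputable def grm (v : V) : Mat := v.1.2.2ᵀ * v.1.2.2

theorem inv_smul {c : Aut} (hc : c ∈ CZ) (v : V) : (grm (c • v)).trace = (grm v).trace ∧
    (grm (c • v) * grm (c • v)).trace = (grm v * grm v).trace ∧
    ((c • v).1.1 * (c • v).1.1).trace = (v.1.1 * v.1.1).trace := by
  obtain ⟨L, -, -, rfl⟩ := exists_lift_eq hc
  have h : ((L.act • v : V) : E) = L.actE v := L.coe_act v
  have e : grm (L.act • v) = L.h * grm v * L.hᵀ := by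
    simp only [grm, h, L.actE_apply, transpose_mul, transpose_transpose, Matrix.mul_assoc, L.gg]
  have e' : ∀ A : Mat, L.h * A * L.hᵀ * (L.h * A * L.hᵀ) = L.h * (A * A) * L.hᵀ := fun A => by
    simp only [Matrix.mul_assoc, L.hh]
  rw [e, e', L.tr_conj, L.tr_conj, h, L.actE_apply, e', L.tr_conj]
  exact ⟨rfl, rfl, rfl⟩

variable {xs : ℕ → ℕ} {a : V}

theorem St.norm (h : St 11 512 xs a) {n : ℕ} (hc : Nat.beq (tP 512 512 xs xs) (tM 512 512 xs xs + n) = true) :
    2048 * (grm a).trace = n := by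
  have h1 := h.trace h
  rw [beq_iff.1 hc, sqrt_pow 11] at h1
  generalize tM 512 512 xs xs = m at h1
  rw [grm]; push_cast at h1; linarith

noncomputable def gP (xs : ℕ → ℕ) (i j : ℕ) : ℕ :=
  dotP 512 512 (lo (xs i)) (revA (lo (xs j)) 11) + dotP 512 512 (hi (xs i)) (revA (hi (xs j)) 11)
noncomputable def gN (xs : ℕ → ℕ) (i j : ℕ) : ℕ :=
  dotM 512 512 (lo (xs i)) (revA (lo (xs j)) 11) + dotM 512 512 (hi (xs i)) (revA (hi (xs j)) 11)
noncomputable def gS (xs : ℕ → ℕ) : ℕ :=
  sumN (fun i => sumN (fun j => (gP xs i j - gN xs i j + (gN xs i j - gP xs i j)) ^ 2) 24) 24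

theorem St.norm2 (h : St 11 512 xs a) : 2048 ^ 2 * (grm a * grm a).trace = gS xs := by
  have : (grm a)ᵀ = grm a := by rw [grm, transpose_mul, transpose_transpose]
  rw [gS, sumN_eq, Nat.cast_sum, ← sum_golayPt, show grm a * grm a = (grm a)ᵀ * grm a by rw [this], trace_tmul, mul_sum]
  refine sum_congr rfl fun i _ => ?_
  rw [sumN_eq, Nat.cast_sum, ← sum_golayPt, mul_sum]
  refine sum_congr rfl fun j _ => ?_
  have h1 : _ = (gP xs _ _ : ℝ) - gN xs _ _ := h.gram h (gIdx_lt i) (gIdx_lt j)
  rw [gPt_gIdx, gPt_gIdx, sqrt_pow 11] at h1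
  generalize gP xs _ _ = p, gN xs _ _ = q at h1
  rw [← sq, ← mul_pow, show (2048 : ℝ) * grm a i j = p - q by rw [← h1, grm]; norm_num]
  rcases le_total p q with h | h <;> simp [Nat.sub_eq_zero_of_le h, h]; ring

theorem exists_rep {b c : V} : Vr (tau • b) c → ∃ a, Vr (tau • a) b ∧ (co a).u2 = (co b).u3 ∧ (co a).u3 = (co c).u2
  | ⟨s, n, e⟩ => by
    have h1 := congrArg Co.u2 (co_qV_Om s n c)
    have h2 := co_qV_Om 0 s (tau⁻¹ • b)
    refine ⟨qV (qe 0 (s • Om) 0) • tau⁻¹ • b, by
      simpa using (show Vr _ (tau⁻¹ • b) from ⟨0, s, rfl⟩).tau, (congrArg Co.u2 h2).trans ?_, (congrArg Co.u3 h2).trans ?_⟩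
    · simp [tau_inv_smul, u2_tau, u1_tau]
    · simp only [tau_inv_smul, u3_tau, e, zero_add]
      erw [h1]; simp [smul_smul]

theorem El.frame {e : El} (h : e.ok = true) : code2 ((rhoC e.g)⁻¹ • om) = codeN (get 192 e.M 23) := by
  rw [El.rho h, om_eq, ← QuotientGroup.mk_inv, mk_smul, smul_mk, code2_mk]
  refine code_of_coe (funext fun p => Int.cast_injective (α := ℝ) ?_)
  have h1 : (cM (cOf e.M))ᵀ *ᵥ (cM (cOf e.M) *ᵥ rv ((cOf e.M)⁻¹ • e8 none)) = rv ((cOf e.M)⁻¹ • e8 none) := by
    rw [mulVec_mulVec, cM_orth, one_mulVec]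
  rw [cM_mulVec, smul_inv_smul, rv_e8, (chkM_spec (El.chk h).2).1, mulVec_single] at h1
  refine (congrFun h1 p).symm.trans ?_
  simp only [vN, ← get_get (d := 8) (b := 24) (gIdx_lt p), mat, ent]
  simp; rfl

end Cfsg.Lib.Griess
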