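import Cfsg.Agent.Lib.Mon.FrChk
import Cfsg.Agent.Lib.Mon.EngMat
import Cfsg.Agent.Lib.F2.Table

/-!
# Certificates for the orbits on frames of a subgroup of `Co₁`
-/

set_option autoImplicit false

namespace Cfsg.Lib.Frame

open Finset MulAction Matrix Cfsg.Lib.Calc Cfsg.Lib.F2 Cfsg.Lib.Griess Cfsg.Lib.Leech Cfsg.Spor
open Cfsg.Lib.Golay (cw gIdx gPt G)

/-- The rows of `M` are the vectors `g • e8 p`. -/
def IsFr (g : Co0) (M : ℕ) : Prop :=
  ∀ p < 24, ((g • e8 (gPt p) : leechLattice) : GolayPt → ℤ) = vN (get 192 M p)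

theorem ent_eq (M i : ℕ) {j : ℕ} (hj : j < 24) : ent M i j = get 8 (get 192 M i) j := F2.get_get hj M i

theorem isFr_of {M : ℕ} {c : Co0} (h : cM c = mat M) : IsFr c⁻¹ M := fun p hp => funext fun q => by
  have h1 := dot_smul c (c⁻¹ • e8 (gPt p)) (e8 q)
  rw [smul_inv_smul, coe_e8 q, dot_single, coe_e8, dot_comm, dot_single] at h1
  have h2 := congrFun₂ h (gPt p) q
  simp only [cM, mat, of_apply, rv, gIdx_gPt hp, ent_eq M p (gIdx_lt q)] at h2
  have h3 : ((c • e8 q : leechLattice) : GolayPt → ℤ) (gPt p) = (get 8 (get 192 M p) (gIdx q) : ℤ) - 64 := by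
    exact_mod_cast (div_left_inj' (by norm_num)).1 h2
  unfold vN
  omega

theorem code2_fr {M C : ℕ} (h : chkM M C = true) :
    code2 ((cOf M : Co1)⁻¹ • (e8 none : L2)) = codeN (get 192 M 23) :=
  code_of_coe (isFr_of (chkM_spec h).1 23 (by norm_num))

/-- residues -/
abbrev Z30 : Type := ZMod (2 ^ 30)

/-- the matrix packed in `Gc` -/
def gm (Gc : ℕ) (p q : GolayPt) : ℤ := get 30 (get 720 Gc (gIdx p)) (gIdx q)

/-- column `j` of `M` -/
noncomputable def colF (M j : ℕ) : ℕ :=
  pack (nat_lit 72) (fun p => Nat.add (ent M p j) (nat_lit 1073741760)) (nat_lit 24)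

/-- row `a` of the product of `Gc` and the transpose of the frame -/
noncomputable def xrow (Gc : ℕ) (FT : List ℕ) (a : ℕ) : ℕ :=
  red (nat_lit 30) (nat_lit 24) (dotL (nat_lit 30) (nat_lit 0) FT (get (nat_lit 720) Gc a))

/-- the combination of the rows in `L` with the coordinates of vector number `p` of `V` -/
noncomputable def mrow (k : ℕ) (L : List ℕ) (V p : ℕ) : ℕ :=
  red k (nat_lit 24) (dotL (nat_lit 8) (nat_lit 1073741760) L (get (nat_lit 192) V p))

theorem cast_off (a : ℕ) {j : ℕ} (hj : j < 24) :
    get 8 a j + 1073741760 ≤ 2 ^ 31 ∧ ((get 8 a j + 1073741760 : ℕ) : Z30) = (vN a (gPt j) : ℤ) := by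
  refine ⟨by have := get_lt 8 a j; omega, ?_⟩
  rw [vN, gIdx_gPt hj]
  push_cast
  rw [sub_eq_add_neg]
  exact congrArg _ (by decide +kernel)

theorem rz_colF (M : ℕ) {j : ℕ} (hj : j < 24) :
    Rz 24 (2 ^ 31) (colF M j) fun p => ((vN (get 192 M p) (gPt j) : ℤ) : Z30) :=
  ⟨_, rfl, fun p _ => by erw [ent_eq M p hj]; exact cast_off _ hj⟩

theorem rz_pre {L : ℕ → ℕ} {F : ℕ → ℕ → Z30} (h : ∀ j < 24, Rz 24 (2 ^ 31) (L j) (F j)) (a : ℕ) :
    Rz 24 (2 ^ 70) (dotL 8 1073741760 ((List.range 24).map L) a)
      fun i => ∑ j ∈ range 24, ((vN a (gPt j) : ℤ) : Z30) * F j i :=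
  (Rz.dotL h fun _ hj => cast_off a hj).mono (by norm_num)

variable {g : Co0} {M : ℕ}

theorem rz_g (h : IsFr g M) (Gc : ℕ) {p : ℕ} (hp : p < 24) :
    Rz 24 (2 ^ 70) (dotL 8 1073741760 ((List.range 24).map (xrow Gc ((List.range 24).map (colF M)))) (get 192 M p))
      fun q => bil Z30 (gm Gc) (g • e8 (gPt p)) (g • e8 (gPt q)) :=
  (rz_pre (fun a _ => ((Rz.dotL (C := 2 ^ 30) (fun _ => rz_colF M) fun b _ => ⟨(get_lt 30 _ b).le, rfl⟩).red
    (by norm_num) (by norm_num) (ZMod.natCast_self _)).mono (by norm_num)) _).congr fun q hq => by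
    rw [bil, h p hp, h q hq, sum_pt, Int.cast_sum]
    refine sum_congr rfl fun a ha => ?_
    rw [sum_pt, Int.cast_sum, mul_sum]
    refine sum_congr rfl fun b hb => ?_
    simp [gm, gIdx_gPt (mem_range.1 ha), gIdx_gPt (mem_range.1 hb), mul_assoc]

theorem rz_a (h : IsFr g M) (a : ℕ) : Rz 24 (2 ^ 70) (dotL 8 1073741760 ((List.range 24).map (colF M)) a)
    fun p => ((dotInt (vN a) (g • e8 (gPt p) : leechLattice) : ℤ) : Z30) :=
  (rz_pre (fun _ => rz_colF M) a).congr fun p hp => by rw [h p hp, dotInt, sum_pt]; push_cast; rfl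

/-- reduction -/
def down : Z30 →+* Z24 := ZMod.castHom (pow_dvd_pow 2 (by norm_num)) _

/-- the vectors packed in `RP` -/
noncomputable def vecs (n RP : ℕ) : Multiset leechLattice := (range n).val.map fun r => lv (get 192 RP r)

/-- the checks on the vectors -/
noncomputable def vecOK (n RP : ℕ) : Bool :=
  band (band (Nat.ble n (nat_lit 4096)) (incA (nat_lit 192) n RP)) (allBig n fun r => isL (get (nat_lit 192) RP r))

theorem rows_of (h : IsFr g M) (Gc : ℕ) {n RP : ℕ} (hR : vecOK n RP = true) :
    Rows (str Z24 (gm Gc) (vecs n RP) g) n (mrow 24 ((List.range 24).map (xrow Gc ((List.range 24).map (colF M)))) M)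
      (mrow 24 ((List.range 24).map (colF M)) RP) fun r p => (dt(lv (get 192 RP r), g • e8 p) : Z24) := by
  simp only [vecOK, band_eq_true, ble_iff, allBig_iff] at hR
  refine ⟨hR.1.1, by simp only [str, vecs, Multiset.map_map]; rfl, fun p hp => (((rz_g h Gc hp).map down).red24 (by norm_num)).congr
    fun q _ => map_intCast _ _, fun r hr => (((rz_a h _).map down).red24 (by norm_num)).congr fun q _ => ?_⟩
  rw [map_intCast, coe_lv (hR.2 r hr)]

/-- the group -/
noncomputable abbrev grp (Gc n RP : ℕ) : Subgroup Co0 := stabT Z24 (gm Gc) (vecs n RP)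

/-- the invariant -/
noncomputable def jv (Gc n RP : ℕ) (g : Co0) : ℕ := inv Hz (fun x => hh x.val) (str Z24 (gm Gc) (vecs n RP) g)

/-- The checks for a frame; `t` holds the code, the orbit length, the order of the stabiliser and the invariant. -/
noncomputable def recOK (Gc n RP M C m : ℕ) (l : List (ℕ × ℕ × ℕ × ℕ)) (t : ℕ × ℕ × ℕ × ℕ) : Bool :=
  band (band (chkM M C) (band (Nat.beq (codeN (get (nat_lit 192) M (nat_lit 23))) t.1)
      (Nat.beq (m * (l.map fun s => s.2.2.1).prod) t.2.2.1)))
    (mkF (nat_lit 24) (colF M) (fun FT => mkF (nat_lit 24) (xrow Gc FT) (fun XL =>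
      band (lamOK n (mrow (nat_lit 24) XL M) (mrow (nat_lit 24) FT RP) m t.2.2.2)
        (pathOK n (mrow (nat_lit 24) XL M) (mrow (nat_lit 24) FT RP) l)) []) [])

theorem rec_of {Gc n RP M C m : ℕ} {l : List (ℕ × ℕ × ℕ × ℕ)} {t : ℕ × ℕ × ℕ × ℕ} (hR : vecOK n RP = true)
    (h : recOK Gc n RP M C m l t = true) : Rec (grp Gc n RP) (jv Gc n RP) t.1 t.2.2.1 t.2.2.2 := by
  simp only [recOK, mkF_eq, List.append_nil, band_eq_true, beq_iff] at h
  obtain ⟨⟨h1, h2, h3⟩, h4, h5⟩ := h
  have hF := isFr_of (chkM_spec h1).1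
  have hr := rows_of hF Gc hR
  refine ⟨_, (code_of_coe (hF 23 (by norm_num))).trans h2, ?_, (hr.of_lamOK h4).2⟩
  refine (card_stab_le Hz (hr.of_lamOK h4).1 (hr.of_pathOK h5)).trans_eq ?_
  rw [List.map_map, ← h3]; rfl

/-- the identity matrix -/
def mId : ℕ := 0x484040404040404040404040404040404040404040404040404840404040404040404040404040404040404040404040404048404040404040404040404040404040404040404040404040484040404040404040404040404040404040404040404040404840404040404040404040404040404040404040404040404048404040404040404040404040404040404040404040404040484040404040404040404040404040404040404040404040404840404040404040404040404040404040404040404040404048404040404040404040404040404040404040404040404040484040404040404040404040404040404040404040404040404840404040404040404040404040404040404040404040404048404040404040404040404040404040404040404040404040484040404040404040404040404040404040404040404040404840404040404040404040404040404040404040404040404048404040404040404040404040404040404040404040404040484040404040404040404040404040404040404040404040404840404040404040404040404040404040404040404040404048404040404040404040404040404040404040404040404040484040404040404040404040404040404040404040404040404840404040404040404040404040404040404040404040404048404040404040404040404040404040404040404040404040484040404040404040404040404040404040404040404040404840404040404040404040404040404040404040404040404048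

/-- the negative of the identity matrix -/
def mNeg : ℕ := 0x384040404040404040404040404040404040404040404040403840404040404040404040404040404040404040404040404038404040404040404040404040404040404040404040404040384040404040404040404040404040404040404040404040403840404040404040404040404040404040404040404040404038404040404040404040404040404040404040404040404040384040404040404040404040404040404040404040404040403840404040404040404040404040404040404040404040404038404040404040404040404040404040404040404040404040384040404040404040404040404040404040404040404040403840404040404040404040404040404040404040404040404038404040404040404040404040404040404040404040404040384040404040404040404040404040404040404040404040403840404040404040404040404040404040404040404040404038404040404040404040404040404040404040404040404040384040404040404040404040404040404040404040404040403840404040404040404040404040404040404040404040404038404040404040404040404040404040404040404040404040384040404040404040404040404040404040404040404040403840404040404040404040404040404040404040404040404038404040404040404040404040404040404040404040404040384040404040404040404040404040404040404040404040403840404040404040404040404040404040404040404040404038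

theorem isFr_one : IsFr 1 mId := by
  simp only [IsFr, one_smul, coe_e8]; decide +kernel

theorem isFr_neg : IsFr negOne⁻¹ mNeg := by
  simp only [IsFr, inv_eq_of_mul_eq_one_right negOne_mul_self, negOne_smul, AddSubgroup.coe_neg, coe_e8]
  decide +kernel

/-- The checks for an element of the group. -/
noncomputable def genOK (Gc n RP M : ℕ) : Bool :=
  mkF (nat_lit 24) (colF M) (fun FT => mkF (nat_lit 24) (xrow Gc FT) (fun XL =>
    mkF (nat_lit 24) (colF mId) (fun FI => mkF (nat_lit 24) (xrow Gc FI) (fun XI =>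
      band (allLt (nat_lit 24) fun p => Nat.beq (mrow (nat_lit 30) XL M p) (mrow (nat_lit 30) XI mId p))
        (mkF n (mrow (nat_lit 24) FI RP) (fun AI => allBig n fun r => forceB (mrow (nat_lit 24) FT RP r) fun a =>
          memN a AI) [])) []) []) []) []

theorem eight_smul (g : Co0) (x : leechLattice) (i : GolayPt) :
    8 * ((g • x : leechLattice) : GolayPt → ℤ) i =
      ∑ p, (x : GolayPt → ℤ) p * ((g • e8 p : leechLattice) : GolayPt → ℤ) i := by
  have h1 : ∀ y : leechLattice, 8 * ((g • y : leechLattice) : GolayPt → ℤ) i = dt(y, g⁻¹ • e8 i) := fun y => by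
    rw [← dot_smul g, smul_inv_smul, coe_e8, dot_single, mul_comm]
  rw [h1, dotInt]
  refine sum_congr rfl fun p _ => congrArg _ ?_
  have := h1 (e8 p)
  rw [dot_comm, coe_e8, dot_single] at this
  omega

theorem sum_four (f : GolayPt → GolayPt → GolayPt → GolayPt → ℤ) :
    ∑ p, ∑ q, ∑ a, ∑ b, f p q a b = ∑ a, ∑ b, ∑ p, ∑ q, f p q a b := by
  rw [sum_congr rfl fun p _ => sum_comm, sum_comm]
  exact sum_congr rfl fun a _ => (sum_congr rfl fun p _ => sum_comm).trans sum_comm

theorem bil_smul {Gz : GolayPt → GolayPt → ℤ}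
    (h : ∀ p q, bil Z30 Gz (g • e8 p) (g • e8 q) = bil Z30 Gz ((1 : Co0) • e8 p) ((1 : Co0) • e8 q))
    (x y : leechLattice) : bil Z24 Gz (g • x) (g • y) = bil Z24 Gz x y := by
  have key : ∀ g : Co0, ((64 * ∑ p, ∑ q, ((g • x : leechLattice) : GolayPt → ℤ) p * Gz p q *
      ((g • y : leechLattice) : GolayPt → ℤ) q : ℤ) : Z30) =
        ∑ a, ∑ b, ((x : GolayPt → ℤ) a * (y : GolayPt → ℤ) b : ℤ) * bil Z30 Gz (g • e8 a) (g • e8 b) := fun g => by
    simp only [bil, ← Int.cast_mul, ← Int.cast_sum]
    congr 1
    simp only [mul_sum]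
    rw [sum_congr rfl fun p _ => sum_congr rfl fun q _ => show _ = ∑ a, ∑ b, (x : GolayPt → ℤ) a *
      (y : GolayPt → ℤ) b * (((g • e8 a : leechLattice) : GolayPt → ℤ) p * Gz p q *
        ((g • e8 b : leechLattice) : GolayPt → ℤ) q) by
      rw [show (64 : ℤ) = 8 * 8 from rfl, mul_assoc _ (Gz p q), mul_mul_mul_comm, mul_left_comm 8, eight_smul,
        eight_smul, mul_sum, sum_mul_sum]
      exact sum_congr rfl fun a _ => sum_congr rfl fun b _ => by ring]
    exact sum_four _
  have := (key g).trans ((sum_congr rfl fun a _ => sum_congr rfl fun b _ => by rw [h]).trans (key 1).symm)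
  rw [one_smul, one_smul, ZMod.intCast_eq_intCast_iff_dvd_sub, ← mul_sub] at this
  exact (ZMod.intCast_eq_intCast_iff_dvd_sub _ _ _).2
    ((mul_dvd_mul_iff_left (by norm_num : (64 : ℤ) ≠ 0)).1 (by simpa using this))

theorem mem_of_genOK {Gc n RP : ℕ} {c : Co0} (hF : IsFr c⁻¹ M) (hR : vecOK n RP = true)
    (h : genOK Gc n RP M = true) : c ∈ grp Gc n RP := by
  simp only [genOK, mkF_eq, List.append_nil, band_eq_true, beq_iff, allLt_iff, allBig_iff, forceB_eq] at h
  obtain ⟨h1, h2⟩ := h
  have r1 := rows_of hF Gc hR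
  have r2 := rows_of isFr_one Gc hR
  simp only [vecOK, band_eq_true, ble_iff, allBig_iff] at hR
  refine ⟨fun x y => ?_, ?_⟩
  · rw [← bil_smul (g := c⁻¹) (fun p q => ?_), inv_smul_smul, inv_smul_smul]
    have a1 := ((rz_g hF Gc (gIdx_lt p)).red (k := 30) (by norm_num) (by norm_num) (ZMod.natCast_self _)).get
      (by norm_num) (gIdx_lt q)
    have a2 := ((rz_g isFr_one Gc (gIdx_lt p)).red (k := 30) (by norm_num) (by norm_num) (ZMod.natCast_self _)).get
      (by norm_num) (gIdx_lt q)
    simp only [gPt_gIdx] at a1 a2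
    rw [← a1.2, ← a2.2]
    exact congrArg (fun X => ((get 72 X (gIdx q) : ℕ) : Z30)) (h1 _ (gIdx_lt p))
  · have hn : (vecs n RP).Nodup := (range n).nodup.map_on fun i hi j hj e => by
      have hi := mem_range.1 hi
      have hj := mem_range.1 hj
      have := congrArg Subtype.val e
      rw [coe_lv (hR.2 i hi), coe_lv (hR.2 j hj)] at this
      refine incA_spec hR.1.2 i hi j hj (eq_of_get_eq (w := 8) (n := 24) (get_lt _ _ _) (get_lt _ _ _) fun p hp => ?_)
      have := congrFun this (gPt p)
      simp only [vN, gIdx_gPt hp] at this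
      omega
    refine Multiset.eq_of_le_of_card_le ((Multiset.le_iff_subset (hn.map (MulAction.injective c))).2 ?_) (by simp)
    intro x hx
    obtain ⟨_, hy, rfl⟩ := Multiset.mem_map.1 hx
    obtain ⟨r, hr, rfl⟩ := Multiset.mem_map.1 hy
    have hr := mem_range.1 hr
    obtain ⟨s, hs, e⟩ := List.mem_map.1 (mem_of_memN (h2 r hr))
    have hs := List.mem_range.1 hs
    refine Multiset.mem_map.2 ⟨s, mem_range.2 hs, Subtype.ext (funext fun p => ?_)⟩
    have a1 := ((r1.a r hr).get (by norm_num) (gIdx_lt p)).2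
    have a2 := ((r2.a s hs).get (by norm_num) (gIdx_lt p)).2
    erw [e, a1] at a2
    rw [gPt_gIdx, ← dot_smul c, smul_inv_smul, one_smul, coe_e8, dot_single, dot_single,
      ZMod.intCast_eq_intCast_iff_dvd_sub] at a2
    have hb : ∀ a p, -64 ≤ vN a p ∧ vN a p < 192 := fun a p => by
      have := get_lt 8 a (gIdx p); unfold vN; omega
    have a3 := sq_le_sqNorm ((c • lv (get 192 RP r) : leechLattice) : GolayPt → ℤ) p
    rw [sqNorm_smul, coe_lv (hR.2 r hr)] at a3
    have a4 : sqNorm (vN (get 192 RP r)) ≤ 24 * 192 ^ 2 := (sum_le_card_nsmul _ _ (192 ^ 2) fun q _ => by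
      have := hb (get 192 RP r) q; nlinarith).trans (by simp)
    have a5 := abs_le_of_sq_le_sq' (a3.trans (a4.trans (by norm_num : _ ≤ (1000 : ℤ) ^ 2))) (by norm_num)
    have a6 := hb (get 192 RP s) p
    rw [← coe_lv (hR.2 s hs)] at a6
    push_cast at a2
    omega

/-- The order of the group generated by the matrices `KL` and its orbits on the frames. -/
theorem frames {Gc n RP : ℕ} {KL : List (ℕ × ℕ)} {lo : List Lo} {L : List (ℕ × ℕ × ℕ × ℕ)} {σ : ℕ}
    (h0 : band (vecOK n RP) (genOK Gc n RP mNeg) = true)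
    (hK : (KL.all fun t => band (chkM t.1 t.2) (genOK Gc n RP t.1)) = true)
    (hlo : lowChk 24 lo (KL.map Prod.snd) = true)
    (hL : ∀ t ∈ L, Rec (grp Gc n RP) (jv Gc n RP) t.1 t.2.2.1 t.2.2.2)
    (h1 : (∀ l ∈ lo, l.c < 2 ^ 24) ∧ lowN lo = σ ∧ (∀ t ∈ L, t.2.1 * t.2.2.1 = 2 * σ) ∧
      (L.map fun t => t.2.2.2).Nodup ∧ (L.map fun t => t.2.1).sum = 8292375) :
    Nat.card (gp1 (KL.map Prod.snd)) = σ ∧ (gp1 (KL.map Prod.snd)).comap pr1 = grp Gc n RP ∧
      Cover (gp1 (KL.map Prod.snd)) (L.map fun t => (t.1, t.2.1)) := by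
  simp only [band_eq_true, List.all_eq_true] at h0 hK
  have h2 : ∀ C ∈ KL.map Prod.snd, Good 24 code (grp Gc n RP) C := by
    simp only [List.forall_mem_map]
    exact fun t ht => ⟨_, mem_of_genOK (isFr_of (chkM_spec (hK t ht).1).1) h0.1 (hK t ht).2, (chkM_spec (hK t ht).1).2⟩
  refine cover_of (fun t ht g g' e => ?_) (comap_le_of (mem_of_genOK isFr_neg h0.1 h0.2) h2)
    (h1.2.1 ▸ coded1.low' (fun l hl => exists_code2 (h1.1 l hl)) hlo (good_genL fun C hC => good_map (h2 C hC)))
    (fun t ht => ⟨hL t ht, h1.2.2.1 t ht⟩) h1.2.2.2.1 h1.2.2.2.2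
  obtain ⟨σ, hσ, d, hd, -, e⟩ := iso_of ht e
  exact inv_iso _ _ hσ hd e

end Cfsg.Lib.Frame
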